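import Mathlib
import Groth.Prelude.Def_WeilCoh
import Groth.Agent.DimTrdeg.Scheme

/-!
# Objects of `WeilCoh.Var`: dimensions, points
-/

set_option autoImplicit false
universe u v

open AlgebraicGeometry CategoryTheory TopologicalSpace Topology Order

noncomputable section

namespace Groth.Agent.WeilLib

lemma topologicalKrullDim_of_subsingleton (A : Type u) [TopologicalSpace A] [Subsingleton A]
    [Nonempty A] : topologicalKrullDim A = ((0 : ℕ) : WithBot ℕ∞) := by
  have : Nonempty (IrreducibleCloseds A) := ⟨⟨closure {Classical.arbitrary A},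
    isIrreducible_singleton.closure, isClosed_closure⟩⟩
  exact le_antisymm (topologicalKrullDim_zero_of_discreteTopology A) (Order.krullDim_nonneg)

lemma natDim_of_eq {A : Type u} [TopologicalSpace A] {n : ℕ} (h : topologicalKrullDim A = n) :
    WeilCoh.natDim A = n := by
  rw [WeilCoh.natDim, h]
  rfl

variable {k : Type u} [Field k]

/-- The transcendence degree over the ground field of a residue field. -/
def td {Z : Scheme.{u}} (f : Z ⟶ Spec (CommRingCat.of k)) (x : Z) : Cardinal.{u} :=
  letI := (f.residueFieldMap x).hom.toAlgebra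
  Algebra.trdeg ((Spec (CommRingCat.of k)).residueField (f x)) (Z.residueField x)

lemma td_eq_pdim {Z : Scheme.{u}} (f : Z ⟶ Spec (CommRingCat.of k)) [LocallyOfFiniteType f]
    (x : Z) :
    td f x = (WeilCoh.pdim Z x : Cardinal.{u}) ∧
      topologicalKrullDim (closure ({x} : Set Z)) = WeilCoh.pdim Z x := by
  obtain ⟨n, hn, hn'⟩ := DimTrdeg.exists_dim_closure_eq_trdeg f x
  rw [show WeilCoh.pdim Z x = n from natDim_of_eq hn']
  exact ⟨hn, hn'⟩

lemma eq_pdim_of_deltaCompat {Z : Scheme.{u}} (f : Z ⟶ Spec (CommRingCat.of k))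
    [LocallyOfFiniteType f] {δ : Z → ℤ} (hδ : Cyc.DeltaCompat f δ (fun _ => 0)) (x : Z) :
    δ x = WeilCoh.pdim Z x := by
  obtain ⟨n, hn, hn'⟩ := hδ x
  have h : (n : Cardinal.{u}) = (WeilCoh.pdim Z x : Cardinal.{u}) :=
    hn.symm.trans (td_eq_pdim f x).1
  rw [hn', zero_add]
  exact_mod_cast h

/-- A morphism with finite residue extension preserves dimensions of closures of points. -/
lemma pdim_eq_of_residueDegree_ne_zero {Z W : Scheme.{u}} (f : Z ⟶ Spec (CommRingCat.of k))
    (g : W ⟶ Spec (CommRingCat.of k)) [LocallyOfFiniteType f] [LocallyOfFiniteType g]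
    (h : Z ⟶ W) (e : h ≫ g = f) (x : Z) (hx : h.residueDegree x ≠ 0) :
    WeilCoh.pdim W (h x) = WeilCoh.pdim Z x := by
  subst e
  have key : td (h ≫ g) x = td g (h x) := by
    let _ := (g.residueFieldMap (h x)).hom.toAlgebra
    let _ := (h.residueFieldMap x).hom.toAlgebra
    let _ : Algebra ((Spec (CommRingCat.of k)).residueField (g (h x))) (Z.residueField x) :=
      ((h ≫ g).residueFieldMap x).hom.toAlgebra
    have : IsScalarTower ((Spec (CommRingCat.of k)).residueField (g (h x))) (W.residueField (h x))
        (Z.residueField x) :=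
      IsScalarTower.of_algebraMap_eq' (congrArg CommRingCat.Hom.hom
        (Scheme.residueFieldMap_comp h g x))
    have : Module.Finite (W.residueField (h x)) (Z.residueField x) :=
      Module.finite_of_finrank_pos (Nat.pos_of_ne_zero hx)
    exact DimTrdeg.trdeg_eq_of_isAlgebraic ((Spec (CommRingCat.of k)).residueField (g (h x)))
      (W.residueField (h x)) (Z.residueField x)
  have h₁ := (td_eq_pdim g (h x)).1
  rw [← key, (td_eq_pdim (h ≫ g) x).1] at h₁
  exact_mod_cast h₁.symm

lemma pdim_eq_zero_iff_isClosed {Z : Scheme.{u}} (f : Z ⟶ Spec (CommRingCat.of k))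
    [LocallyOfFiniteType f] (x : Z) :
    WeilCoh.pdim Z x = 0 ↔ IsClosed ({x} : Set Z) := by
  constructor
  · intro h0
    have hd : topologicalKrullDim (closure ({x} : Set Z)) = 0 := by
      rw [(td_eq_pdim f x).2, h0]; rfl
    rw [← closure_subset_iff_isClosed]
    intro y hy
    by_contra hyx
    let a : IrreducibleCloseds (closure ({x} : Set Z)) :=
      ⟨closure {⟨y, hy⟩}, isIrreducible_singleton.closure, isClosed_closure⟩
    let b : IrreducibleCloseds (closure ({x} : Set Z)) :=
      ⟨closure {⟨x, subset_closure rfl⟩}, isIrreducible_singleton.closure, isClosed_closure⟩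
    have hb : ∀ z, z ∈ (b : Set (closure ({x} : Set Z))) := fun z => by
      change z ∈ closure {_}
      rw [← specializes_iff_mem_closure, ← IsInducing.subtypeVal.specializes_iff,
        specializes_iff_mem_closure]
      exact z.2
    have hab : a < b := by
      refine lt_of_le_of_ne (fun z _ => hb z) fun he => hyx ?_
      have h₁ : (⟨x, subset_closure rfl⟩ : closure ({x} : Set Z)) ∈
          (a : Set (closure ({x} : Set Z))) := he.symm ▸ hb _
      have h₂ := (specializes_iff_mem_closure.mpr h₁).map continuous_subtype_val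
      exact (h₂.antisymm (specializes_iff_mem_closure.mpr hy)).eq
    have h1 : ((1 : ℕ) : WithBot ℕ∞) ≤ topologicalKrullDim (closure ({x} : Set Z)) :=
      le_iSup (fun l : LTSeries (IrreducibleCloseds (closure ({x} : Set Z))) =>
        ((l.length : ℕ∞) : WithBot ℕ∞)) ((RelSeries.singleton _ a).snoc b hab)
    rw [hd] at h1
    exact Nat.not_succ_le_zero 0 (by exact_mod_cast h1)
  · intro hc
    refine natDim_of_eq ?_
    have : Subsingleton (closure ({x} : Set Z)) := by
      rw [hc.closure_eq]
      infer_instance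
    have : Nonempty (closure ({x} : Set Z)) := ⟨⟨x, subset_closure rfl⟩⟩
    exact topologicalKrullDim_of_subsingleton _

variable (X : WeilCoh.Var k)

instance : LocallyOfFiniteType X.obj.hom :=
  haveI := X.property.1
  inferInstance

instance : IrreducibleSpace X.obj.left := X.property.2.2

instance (n : ℕ) (R : Type u) [CommRing R] : QuasiCompact (CohB1.ProjSpace.toSpec n R) := by
  have h₀ : (algebraMap (CohB1.polyGrading n R 0) (MvPolynomial (Fin (n + 1)) R)).comp
      (algebraMap R (CohB1.polyGrading n R 0)) = algebraMap R (MvPolynomial (Fin (n + 1)) R) := rfl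
  have : Algebra.FiniteType (CohB1.polyGrading n R 0) (MvPolynomial (Fin (n + 1)) R) :=
    RingHom.finiteType_algebraMap.mp (RingHom.FiniteType.of_comp_finiteType
      (f := algebraMap R (CohB1.polyGrading n R 0))
      (by rw [h₀]; exact RingHom.finiteType_algebraMap.mpr inferInstance))
  unfold CohB1.ProjSpace.toSpec
  exact MorphismProperty.comp_mem @QuasiCompact _ _
    (inferInstanceAs (QuasiCompact (Proj.toSpecZero (CohB1.polyGrading n R)))) inferInstance

instance quasiCompact_hom : QuasiCompact X.obj.hom := by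
  obtain ⟨n, i, hi, e⟩ := X.property.2.1
  rw [← e]
  have : QuasiCompact (CohB1.ProjSpaceOver.toBase n (Spec (CommRingCat.of k))) :=
    inferInstanceAs (QuasiCompact (Limits.pullback.snd _ _))
  infer_instance

instance : CompactSpace X.obj.left := QuasiCompact.compactSpace_of_compactSpace X.obj.hom

lemma topologicalKrullDim_eq : topologicalKrullDim X.obj.left =
    (WeilCoh.pdim X.obj.left (genericPoint X.obj.left) : WithBot ℕ∞) := by
  have h := (td_eq_pdim X.obj.hom (genericPoint X.obj.left)).2
  rw [show closure ({genericPoint X.obj.left} : Set X.obj.left) = Set.univ from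
    genericPoint_spec _] at h
  rw [← h]
  exact ((Homeomorph.Set.univ _).isHomeomorph.topologicalKrullDim_eq).symm

lemma pdim_genericPoint : WeilCoh.pdim X.obj.left (genericPoint X.obj.left) =
    WeilCoh.dim X.obj.left :=
  (natDim_of_eq (topologicalKrullDim_eq X)).symm

lemma pdim_le (ξ : X.obj.left) : WeilCoh.pdim X.obj.left ξ ≤ WeilCoh.dim X.obj.left := by
  have h := topologicalKrullDim_subspace_le X.obj.left (closure {ξ})
  rw [(td_eq_pdim X.obj.hom ξ).2, topologicalKrullDim_eq, pdim_genericPoint] at h
  exact_mod_cast h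

lemma codim_cast (ξ : X.obj.left) : (WeilCoh.codim X.obj.left ξ : ℤ) =
    (WeilCoh.dim X.obj.left : ℤ) - WeilCoh.pdim X.obj.left ξ := by
  rw [WeilCoh.codim, Nat.cast_sub (pdim_le X ξ)]

lemma exists_closedPoint : ∃ x : X.obj.left, IsClosed ({x} : Set X.obj.left) := by
  have : JacobsonSpace X.obj.left := LocallyOfFiniteType.jacobsonSpace X.obj.hom
  by_contra h
  simp only [not_exists] at h
  have he : closedPoints X.obj.left = ∅ := Set.eq_empty_of_forall_notMem h
  have := closure_closedPoints (X := X.obj.left)
  rw [he, closure_empty] at this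
  exact Set.notMem_empty _ (this.ge (Set.mem_univ (genericPoint X.obj.left)))

variable [IsAlgClosed k]

include X in
lemma isVar_point : WeilCoh.IsVar k (Over.mk (𝟙 (Spec (CommRingCat.of k)))) := by
  obtain ⟨n, i, hi, e⟩ := X.property.2.1
  obtain ⟨x, hx⟩ := exists_closedPoint X
  have : IsClosedImmersion (pointOfClosedPoint X.obj.hom x hx) :=
    isClosedImmersion_of_comp_eq_id _ _ (pointOfClosedPoint_comp X.obj.hom x hx)
  refine ⟨inferInstanceAs (Smooth (𝟙 _)), ⟨n, pointOfClosedPoint X.obj.hom x hx ≫ i,
    (haveI := hi; inferInstance), ?_⟩,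
    inferInstanceAs (IrreducibleSpace (PrimeSpectrum k))⟩
  erw [Category.assoc, e, pointOfClosedPoint_comp]
  rfl

/-- The point `Spec k` as an object. -/
def pt : WeilCoh.Var k := ⟨Over.mk (𝟙 (Spec (CommRingCat.of k))), isVar_point X⟩

instance subsingleton_pt : Subsingleton (pt X).obj.left :=
  inferInstanceAs (Subsingleton (PrimeSpectrum k))

instance nonempty_pt : Nonempty (pt X).obj.left :=
  inferInstanceAs (Nonempty (PrimeSpectrum k))

lemma dim_pt : WeilCoh.dim (pt X).obj.left = 0 :=
  natDim_of_eq (topologicalKrullDim_of_subsingleton _)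

lemma pdim_pt (z : (pt X).obj.left) : WeilCoh.pdim (pt X).obj.left z = 0 :=
  haveI : Nonempty (closure ({z} : Set (pt X).obj.left)) := ⟨⟨z, subset_closure rfl⟩⟩
  natDim_of_eq (topologicalKrullDim_of_subsingleton _)

/-- The morphism to the point. -/
def toPt : X ⟶ pt X :=
  ObjectProperty.homMk (Over.homMk (U := X.obj) (V := (pt X).obj) X.obj.hom (Category.comp_id _))

/-- The morphism from the point to a closed point. -/
def ofPt (x : X.obj.left) (hx : IsClosed ({x} : Set X.obj.left)) : pt X ⟶ X :=
  ObjectProperty.homMk (Over.homMk (U := (pt X).obj) (V := X.obj)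
    (pointOfClosedPoint X.obj.hom x hx) (pointOfClosedPoint_comp _ _ _))

lemma ofPt_apply (x : X.obj.left) (hx : IsClosed ({x} : Set X.obj.left)) (z : (pt X).obj.left) :
    WeilCoh.sm (ofPt X x hx) z = x :=
  pointOfClosedPoint_apply X.obj.hom x hx z

lemma residueDegree_toPt (x : X.obj.left) (hx : IsClosed ({x} : Set X.obj.left)) :
    (WeilCoh.sm (toPt X)).residueDegree x = 1 := by
  let f := X.obj.hom
  change f.residueDegree x = 1
  have h₁ : IsIso (Spec.map (f.residueFieldMap x) ≫
      (Spec (CommRingCat.of k)).fromSpecResidueField (f x)) := by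
    rw [Scheme.Hom.SpecMap_residueFieldMap_fromSpecResidueField,
      ← SpecMap_residueFieldIsoBase_inv f x hx]
    infer_instance
  have : IsSplitEpi ((Spec (CommRingCat.of k)).fromSpecResidueField (f x)) :=
    IsSplitEpi.mk' ⟨inv (Spec.map (f.residueFieldMap x) ≫
      (Spec (CommRingCat.of k)).fromSpecResidueField (f x)) ≫ Spec.map (f.residueFieldMap x),
      by rw [Category.assoc, IsIso.inv_hom_id]⟩
  have : IsIso ((Spec (CommRingCat.of k)).fromSpecResidueField (f x)) := isIso_of_mono_of_isSplitEpi _
  have h₂ : IsIso (Spec.map (f.residueFieldMap x)) :=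
    IsIso.of_isIso_comp_right _ ((Spec (CommRingCat.of k)).fromSpecResidueField (f x))
  have h₃ : IsIso (f.residueFieldMap x) := by
    refine ⟨Spec.preimage (inv (Spec.map (f.residueFieldMap x))), ?_, ?_⟩ <;>
      apply Spec.map_injective <;> simp
  let _ := (f.residueFieldMap x).hom.toAlgebra
  exact (AlgEquiv.ofBijective (Algebra.ofId _ _)
    (ConcreteCategory.bijective_of_isIso (f.residueFieldMap x))).toLinearEquiv.finrank_eq.symm.trans
      (Module.finrank_self _)

end Groth.Agent.WeilLib

end
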