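import Mathlib
import Groth.Prelude.Def_WeilCoh
import Groth.Agent.WeilLib.Var

/-!
# Elementary consequences of the axioms of a Weil cohomology theory
-/

set_option autoImplicit false
set_option linter.unusedSectionVars false
universe u v

open AlgebraicGeometry CategoryTheory WeilCoh

noncomputable section

namespace Groth.Agent.WeilLib

variable {k : Type u} [Field k] [IsAlgClosed k] {K : Type v} [Field K] [CharZero K]
  (T : WeilCoh.Theory k K) {X Y Z Q : WeilCoh.Var k}

lemma tr_mul_eq_zero {i j : ℤ} {a b : T.H X} (ha : a ∈ T.gr X i) (hb : b ∈ T.gr X j)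
    (h : i + j ≠ 2 * (dim X.obj.left : ℤ)) : T.tr X (a * b) = 0 :=
  T.tr_vanish X (i + j) _ (SetLike.mul_mem_graded ha hb) h

lemma mul_comm_sign {i j : ℤ} {a b : T.H X} (ha : a ∈ T.gr X i) (hb : b ∈ T.gr X j) :
    a * b = ((-1 : K) ^ (i.natAbs * j.natAbs)) • (b * a) :=
  T.gradedComm X i j a b ha hb

lemma mul_comm_even {i j : ℤ} (hi : Even i) {a b : T.H X} (ha : a ∈ T.gr X i)
    (hb : b ∈ T.gr X j) : a * b = b * a := by
  rw [mul_comm_sign T ha hb, Even.neg_one_pow ((Int.natAbs_even.mpr hi).mul_right _), one_smul]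

/-- Induction on the grading. -/
@[elab_as_elim]
lemma gr_induction {motive : T.H X → Prop} (z : T.H X) (hz : motive 0)
    (hadd : ∀ a b, motive a → motive b → motive (a + b))
    (hg : ∀ (i : ℤ) (a : T.H X), a ∈ T.gr X i → motive a) : motive z := by
  have h : z ∈ ⨆ i, T.gr X i := by rw [(T.decomp X).submodule_iSup_eq_top]; trivial
  exact Submodule.iSup_induction (T.gr X) (motive := motive) h hg hz hadd

/-- Classes with the same traces against everything are equal. -/
lemma ext_tr {y y' : T.H X} (h : ∀ (j : ℤ), ∀ b ∈ T.gr X j, T.tr X (y * b) = T.tr X (y' * b)) :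
    y = y' := by
  rw [← sub_eq_zero]
  have h' : ∀ (j : ℤ), ∀ b ∈ T.gr X j, T.tr X ((y - y') * b) = 0 := fun j b hb => by
    rw [sub_mul, map_sub, h j b hb, sub_self]
  generalize y - y' = z at h'
  classical
  obtain ⟨c, hc⟩ : ∃ c : Π₀ i, T.gr X i, (c.sum fun _ a => (a : T.H X)) = z := by
    have : z ∈ ⨆ i, T.gr X i := by rw [(T.decomp X).submodule_iSup_eq_top]; trivial
    exact (Submodule.mem_iSup_iff_exists_dfinsupp' _ _).mp this
  suffices hci : ∀ i, c i = 0 by
    rw [← hc, DFinsupp.sum]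
    exact Finset.sum_eq_zero fun i _ => by simp [hci i]
  intro i
  refine (T.duality X i (2 * (dim X.obj.left : ℤ) - i) (by ring)).bijective_left.1 ?_
  rw [map_zero]
  refine LinearMap.ext fun b => ?_
  change T.tr X ((c i : T.H X) * (b : T.H X)) = 0
  rw [← h' _ b b.2, ← hc, DFinsupp.sum, Finset.sum_mul, map_sum, Finset.sum_eq_single i]
  · intro j _ hj
    exact tr_mul_eq_zero T (c j).2 b.2 (by omega)
  · intro hi
    rw [DFinsupp.notMem_support_iff.mp hi]
    simp

/-- The characterising property of the push-forward. -/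
lemma tr_push (f : X ⟶ Y) (i : ℤ) (a : T.gr X i) (b : T.H Y) :
    T.tr Y ((T.push f i a : T.H Y) * b) = T.tr X ((a : T.H X) * T.pull f b) := by
  induction b using gr_induction T with
  | hz => simp
  | hadd x y hx hy => simp [mul_add, hx, hy]
  | hg j b hb =>
    by_cases hj : j = 2 * (dim X.obj.left : ℤ) - i
    · subst hj
      have := T.duality Y (i + 2 * (dim Y.obj.left : ℤ) - 2 * (dim X.obj.left : ℤ))
        (2 * (dim X.obj.left : ℤ) - i) (by omega)
      exact LinearMap.congr_fun (LinearMap.apply_symm_toPerfPair_self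
        (WeilCoh.pairing K (T.gr Y (i + 2 * (dim Y.obj.left : ℤ) - 2 * (dim X.obj.left : ℤ)))
          (T.gr Y (2 * (dim X.obj.left : ℤ) - i)) (T.tr Y)) (T.pushFunctional f i a)) ⟨b, hb⟩
    · rw [tr_mul_eq_zero T (T.push f i a).2 hb (by omega),
        tr_mul_eq_zero T a.2 (T.pull_mem f j b hb) (by omega)]

lemma push_eq (f : X ⟶ Y) (i : ℤ) (a : T.gr X i) (y : T.H Y)
    (h : ∀ (j : ℤ), ∀ b ∈ T.gr Y j, T.tr Y (y * b) = T.tr X ((a : T.H X) * T.pull f b)) :
    (T.push f i a : T.H Y) = y :=
  ext_tr T fun j b hb => by rw [tr_push, h j b hb]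

lemma one_ne_zero' (X : WeilCoh.Var k) : (1 : T.H X) ≠ 0 := by
  intro h
  obtain ⟨⟨a, ha⟩, h1⟩ := (T.tr_bijective X).2 1
  have : a = 0 := by rw [← mul_one a, h, mul_zero]
  subst this
  simp at h1

lemma one_mem (X : WeilCoh.Var k) : (1 : T.H X) ∈ T.gr X 0 := SetLike.one_mem_graded _

lemma algebraMap_mem (X : WeilCoh.Var k) (c : K) : algebraMap K (T.H X) c ∈ T.gr X 0 := by
  rw [Algebra.algebraMap_eq_smul_one]
  exact Submodule.smul_mem _ _ (one_mem T X)

lemma smul_one_bijective (X : WeilCoh.Var k) :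
    Function.Bijective (fun c : K =>
      (⟨c • (1 : T.H X), (T.gr X 0).smul_mem c (one_mem T X)⟩ : T.gr X 0)) := by
  let L : K →ₗ[K] T.gr X 0 := LinearMap.toSpanSingleton K _ ⟨1, one_mem T X⟩
  change Function.Bijective L
  have hinj : Function.Injective L := fun a b h => by
    have h' : a • (1 : T.H X) = b • (1 : T.H X) := congrArg Subtype.val h
    exact smul_left_injective K (one_ne_zero' T X) h'
  refine ⟨hinj, (LinearMap.injective_iff_surjective_of_finrank_eq_finrank ?_).mp hinj⟩
  have := T.duality X 0 (2 * (dim X.obj.left : ℤ)) (zero_add _)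
  rw [(WeilCoh.pairing K (T.gr X 0) (T.gr X (2 * (dim X.obj.left : ℤ))) (T.tr X)).toPerfPair.finrank_eq,
    Subspace.dual_finrank_eq, (LinearEquiv.ofBijective _ (T.tr_bijective X)).finrank_eq]

lemma exists_smul_one {X : WeilCoh.Var k} {a : T.H X} (ha : a ∈ T.gr X 0) :
    ∃ c : K, a = c • 1 := by
  obtain ⟨c, hc⟩ := (smul_one_bijective T X).2 ⟨a, ha⟩
  exact ⟨c, congrArg Subtype.val hc.symm⟩

lemma tr_pt_one : T.tr (pt X) 1 = 1 := (T.point (pt X) (dim_pt X)).2

lemma cl_pt (z : (pt X).obj.left) : T.cl (pt X) z = 1 := (T.point (pt X) (dim_pt X)).1 z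

/-- The trace of the class of a closed point is one. -/
lemma tr_cl_closed (x : X.obj.left) (hx : IsClosed ({x} : Set X.obj.left)) :
    T.tr X (T.cl X x) = 1 := by
  have h := T.cl_push (toPt X) x 1
    (by rw [(pdim_eq_zero_iff_isClosed X.obj.hom x).mpr hx]; exact one_mem T _)
  rw [map_one, mul_one, residueDegree_toPt X x hx, cl_pt, mul_one, tr_pt_one] at h
  simpa using h

/-- The class of the whole object is one. -/
lemma cl_genericPoint (X : WeilCoh.Var k) : T.cl X (genericPoint X.obj.left) = 1 := by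
  have hmem := T.cl_mem X (genericPoint X.obj.left)
  rw [codim_cast, pdim_genericPoint, sub_self, mul_zero] at hmem
  obtain ⟨c, hc⟩ := exists_smul_one T hmem
  obtain ⟨x, hx⟩ := exists_closedPoint X
  let i := ofPt X x hx
  let η := genericPoint X.obj.left
  have hcl : ∀ z : (pt X).obj.left, WeilCoh.sm i z ∈ closure ({η} : Set X.obj.left) := fun z => by
    rw [show closure ({η} : Set X.obj.left) = Set.univ from genericPoint_spec _]; trivial
  have hall : ∀ z : (pt X).obj.left,
      IsCompPt ((WeilCoh.sm i) ⁻¹' closure ({η} : Set X.obj.left)) z :=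
    fun z => ⟨hcl z, fun w _ _ => Subsingleton.elim _ _⟩
  have hmult : ∀ (w : (pt X).obj.left)
      (hw : IsCompPt ((WeilCoh.sm i) ⁻¹' closure ({η} : Set X.obj.left)) w),
      preimMult (WeilCoh.sm i) η w hw.1 = 1 := by
    intro w hw
    have hf : IsField ((pt X).obj.left.presheaf.stalk w) := by
      change IsField ((Spec (CommRingCat.of k)).presheaf.stalk w)
      rw [show (w : Spec (CommRingCat.of k)) = genericPoint (Spec (CommRingCat.of k)) from
        Subsingleton.elim (α := PrimeSpectrum k) _ _]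
      exact Field.toIsField _
    let R := (pt X).obj.left.presheaf.stalk w
    let _ : Field R := hf.toField
    have hI : Ideal.map ((WeilCoh.sm i).stalkMap w).hom
        (RingHom.ker (Cyc.specMap (WeilCoh.sm i w) η (specializes_iff_mem_closure.mpr hw.1))) = ⊥ := by
      rcases Ideal.eq_bot_or_top (Ideal.map ((WeilCoh.sm i).stalkMap w).hom
        (RingHom.ker (Cyc.specMap (WeilCoh.sm i w) η (specializes_iff_mem_closure.mpr hw.1)))) with h | h
      · exact h
      · exfalso
        have hle : RingHom.ker (Cyc.specMap (WeilCoh.sm i w) η (specializes_iff_mem_closure.mpr hw.1)) ≤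
            IsLocalRing.maximalIdeal _ := IsLocalRing.le_maximalIdeal (RingHom.ker_ne_top _)
        have hne : Ideal.map ((WeilCoh.sm i).stalkMap w).hom
            (IsLocalRing.maximalIdeal _) ≤ IsLocalRing.maximalIdeal _ :=
          Ideal.map_le_iff_le_comap.mpr fun x hx => map_nonunit _ x hx
        exact (IsLocalRing.maximalIdeal.isMaximal R).ne_top
          (top_le_iff.mp (h ▸ (Ideal.map_mono hle).trans hne))
    unfold preimMult
    rw [hI, LinearEquiv.length_eq (Submodule.quotEquivOfEqBot (⊥ : Submodule R R) rfl)]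
    have : IsSimpleModule R R := inferInstance
    simp
  have h := T.cl_pull i η (fun w _ => by
    rw [pdim_pt, pdim_genericPoint, dim_pt]; simp) (Or.inr hmult)
  rw [hc, map_smul, map_one] at h
  obtain ⟨z⟩ := nonempty_pt X
  rw [finsum_eq_single _ ⟨z, hall z⟩ (fun w hw => absurd (Subtype.ext (Subsingleton.elim _ _)) hw),
    hmult z (hall z), cl_pt] at h
  have hc1 : c = 1 := smul_left_injective K (one_ne_zero' T (pt X)) (by simpa using h)
  rw [hc, hc1, one_smul]

/-- The dimension of a product. -/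
lemma dim_prod (T : WeilCoh.Theory k K) (p : Q ⟶ X) (q : Q ⟶ Y) (hP : IsProd p q) :
    (dim Q.obj.left : ℤ) = dim X.obj.left + dim Y.obj.left := by
  obtain ⟨a, ha⟩ := (T.tr_bijective X).2 1
  obtain ⟨b, hb⟩ := (T.tr_bijective Y).2 1
  rw [LinearMap.domRestrict_apply] at ha hb
  have h := T.tr_prod p q hP a b a.2 b.2
  rw [ha, hb, one_mul] at h
  by_contra hne
  rw [T.tr_vanish Q _ _ (SetLike.mul_mem_graded (T.pull_mem p _ _ a.2) (T.pull_mem q _ _ b.2))
    (by omega)] at h
  exact zero_ne_one h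

/-- The trace of a product of classes pulled back from the factors. -/
lemma tr_prod' (p : Q ⟶ X) (q : Q ⟶ Y) (hP : IsProd p q) {i j : ℤ} {a : T.H X} {b : T.H Y}
    (ha : a ∈ T.gr X i) (hb : b ∈ T.gr Y j) :
    T.tr Q (T.pull p a * T.pull q b) = T.tr X a * T.tr Y b := by
  by_cases h : i = 2 * (dim X.obj.left : ℤ) ∧ j = 2 * (dim Y.obj.left : ℤ)
  · obtain ⟨rfl, rfl⟩ := h
    exact T.tr_prod p q hP a b ha hb
  · have hR : T.tr X a * T.tr Y b = 0 := by
      by_cases hi : i = 2 * (dim X.obj.left : ℤ)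
      · rw [T.tr_vanish Y j b hb fun hj => h ⟨hi, hj⟩, mul_zero]
      · rw [T.tr_vanish X i a ha hi, zero_mul]
    rw [hR]
    by_cases hij : i + j = 2 * (dim Q.obj.left : ℤ)
    · have hQ := dim_prod T p q hP
      by_cases hi : i ≤ 2 * (dim X.obj.left : ℤ)
      · have : b = 0 := by
          have := T.vanish Y j (Or.inr (by omega))
          rw [this] at hb; exact (Submodule.mem_bot K).mp hb
        subst this; simp
      · have : a = 0 := by
          have := T.vanish X i (Or.inr (by omega))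
          rw [this] at ha; exact (Submodule.mem_bot K).mp ha
        subst this; simp
    · exact tr_mul_eq_zero T (T.pull_mem p i a ha) (T.pull_mem q j b hb) hij

/-- The push-forward identity in all degrees. -/
lemma tr_cl_pull (f : X ⟶ Y) (ξ : X.obj.left) (y : T.H Y) :
    T.tr X (T.cl X ξ * T.pull f y) =
      ((sm f).residueDegree ξ : K) * T.tr Y (T.cl Y (sm f ξ) * y) := by
  induction y using gr_induction T with
  | hz => simp
  | hadd x y hx hy => simp [mul_add, hx, hy]
  | hg j y hy =>
    by_cases hj : j = 2 * (pdim X.obj.left ξ : ℤ)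
    · subst hj; exact T.cl_push f ξ y hy
    · rw [tr_mul_eq_zero T (T.cl_mem X ξ) (T.pull_mem f j y hy) (by rw [codim_cast]; omega)]
      by_cases hd : (sm f).residueDegree ξ = 0
      · rw [hd, Nat.cast_zero, zero_mul]
      · have he : pdim Y.obj.left (sm f ξ) = pdim X.obj.left ξ :=
          pdim_eq_of_residueDegree_ne_zero X.obj.hom Y.obj.hom (sm f) (Over.w f.hom) ξ hd
        rw [tr_mul_eq_zero T (T.cl_mem Y (sm f ξ)) hy (by rw [codim_cast, he]; omega), mul_zero]

/-- For a section of a morphism the residue degree is one. -/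
lemma residueDegree_section (j : X ⟶ Y) (p : Y ⟶ X) (h : j ≫ p = 𝟙 X) (ξ : X.obj.left) :
    (sm j).residueDegree ξ = 1 := by
  have e : sm j ≫ sm p = 𝟙 X.obj.left := by
    change (j ≫ p).hom.left = _
    rw [h]; rfl
  let f := sm j
  have hiso : IsIso ((sm p).residueFieldMap (f ξ) ≫ f.residueFieldMap ξ) := by
    have h1 : IsIso ((f ≫ sm p).residueFieldMap ξ) := by
      rw [Scheme.Hom.residueFieldMap_congr e, Scheme.residueFieldMap_id]
      erw [Category.comp_id]
      exact Iso.isIso_hom _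
    rw [Scheme.residueFieldMap_comp] at h1
    exact h1
  have hb : Function.Bijective (f.residueFieldMap ξ).hom := by
    refine ⟨RingHom.injective _, fun y => ?_⟩
    obtain ⟨x, hx⟩ := ((ConcreteCategory.isIso_iff_bijective _).mp hiso).2 y
    exact ⟨_, hx⟩
  let _ := (f.residueFieldMap ξ).hom.toAlgebra
  exact (AlgEquiv.ofBijective (Algebra.ofId _ _) hb).toLinearEquiv.finrank_eq.symm.trans
    (Module.finrank_self _)

/-- Trace against the class of the image under a section. -/
lemma tr_cl_section (j : X ⟶ Y) (p : Y ⟶ X) (h : j ≫ p = 𝟙 X) (ξ : X.obj.left) (y : T.H Y) :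
    T.tr Y (T.cl Y (sm j ξ) * y) = T.tr X (T.cl X ξ * T.pull j y) := by
  rw [tr_cl_pull, residueDegree_section j p h, Nat.cast_one, one_mul]

lemma pdim_section (j : X ⟶ Y) (p : Y ⟶ X) (h : j ≫ p = 𝟙 X) (ξ : X.obj.left) :
    pdim Y.obj.left (sm j ξ) = pdim X.obj.left ξ :=
  pdim_eq_of_residueDegree_ne_zero X.obj.hom Y.obj.hom (sm j) (Over.w j.hom) ξ
    (by rw [residueDegree_section j p h]; exact one_ne_zero)

lemma cl_section_mem (j : X ⟶ Y) (p : Y ⟶ X) (h : j ≫ p = 𝟙 X) :
    T.cl Y (sm j (genericPoint X.obj.left)) ∈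
      T.gr Y (2 * ((dim Y.obj.left : ℤ) - dim X.obj.left)) := by
  have := T.cl_mem Y (sm j (genericPoint X.obj.left))
  rwa [codim_cast, pdim_section j p h, pdim_genericPoint] at this

lemma pull_pull (f : X ⟶ Y) (g : Y ⟶ Z) (a : T.H Z) :
    T.pull f (T.pull g a) = T.pull (f ≫ g) a := by
  rw [T.pull_comp]; rfl

lemma pull_id_apply (a : T.H X) : T.pull (𝟙 X) a = a := by
  rw [T.pull_id]; rfl

end Groth.Agent.WeilLib

end
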