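import Mathlib
import Groth.Prelude.Def_ChowOps
import Groth.Agent.WeilLib.Basic

/-!
# Classes of cycles
-/

set_option autoImplicit false
set_option linter.unusedSectionVars false
universe u v

open AlgebraicGeometry CategoryTheory WeilCoh

noncomputable section

namespace Groth.Agent.WeilLib

variable {k : Type u} [Field k] [IsAlgClosed k] {K : Type v} [Field K] [CharZero K]
  (T : WeilCoh.Theory k K) {X Y : WeilCoh.Var k}

lemma finite_support_cycle (α : AlgebraicCycle X.obj.left ℤ) :
    (Function.support (α : X.obj.left → ℤ)).Finite := by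
  simpa using α.locallyFiniteSupport.finite_inter_support_of_isCompact
    (isCompact_univ (X := X.obj.left))

/-- The support of a cycle, as a finset. -/
def suppFinset (α : AlgebraicCycle X.obj.left ℤ) : Finset X.obj.left :=
  (finite_support_cycle α).toFinset

lemma mem_suppFinset (α : AlgebraicCycle X.obj.left ℤ) (x : X.obj.left) :
    x ∈ suppFinset α ↔ α x ≠ 0 := by
  simp [suppFinset]

lemma clCyc_eq_sum (α : AlgebraicCycle X.obj.left ℤ) :
    T.clCyc X α = ∑ x ∈ suppFinset α, ((α x : ℤ) : K) • T.cl X x := by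
  refine finsum_eq_sum_of_support_subset _ fun x hx => ?_
  rw [Finset.mem_coe, mem_suppFinset]
  intro h0
  exact hx (by simp [h0])

open Classical in
lemma map_apply_eq_sum {Z : Scheme.{u}} (g : X.obj.left ⟶ Z) [QuasiCompact g]
    (δX : X.obj.left → ℤ) (δZ : Z → ℤ) (α : AlgebraicCycle X.obj.left ℤ) (y : Z) :
    AlgebraicCycle.map g δX δZ α y = ∑ x ∈ suppFinset α,
      if g x = y then α x * (if δX x = δZ (g x) then (g.residueDegree x : ℤ) else 0) else 0 := by
  rw [← Finset.sum_filter]
  refine (finsum_mem_eq_sum_of_inter_support_eq _ ?_).trans (Finset.sum_congr rfl fun x _ => ?_)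
  · ext x
    simp only [Set.mem_inter_iff, Set.mem_preimage, Set.mem_singleton_iff, Function.mem_support,
      Finset.coe_filter, Set.mem_ofPred_eq, mem_suppFinset]
    refine ⟨fun h => ⟨⟨fun h0 => h.2 (by simp [h0]), h.1⟩, h.2⟩, fun h => ⟨h.1.2, h.2⟩⟩
  · simp only [AlgebraicCycle.mapCoeff]
    split_ifs <;> simp

/-- The degree of a zero-cycle is the trace of its class. -/
lemma deg_eq_tr (δ : X.obj.left → ℤ) (hδ : Cyc.DeltaCompat X.obj.hom δ (fun _ => 0))
    (α : AlgebraicCycle X.obj.left ℤ) (hα : α ∈ Cyc.Zk X.obj.left δ 0) :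
    (ChowOps.deg X.obj.hom δ α : K) = T.tr X (T.clCyc X α) := by
  classical
  have hdeg : ChowOps.deg X.obj.hom δ α = _ := map_apply_eq_sum X.obj.hom δ (fun _ => (0 : ℤ)) α
    (IsLocalRing.closedPoint k)
  rw [hdeg, clCyc_eq_sum, map_sum, Int.cast_sum]
  refine Finset.sum_congr rfl fun x hx => ?_
  have h0 : δ x = 0 := by
    by_contra h
    exact (mem_suppFinset α x).mp hx (hα x h)
  have hc : IsClosed ({x} : Set X.obj.left) := by
    rw [← pdim_eq_zero_iff_isClosed X.obj.hom x]
    exact_mod_cast (eq_pdim_of_deltaCompat X.obj.hom hδ x).symm.trans h0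
  erw [if_pos (Subsingleton.elim (α := PrimeSpectrum k) _ _), if_pos h0]
  rw [map_smul, smul_eq_mul,
    tr_cl_closed T x hc, mul_one,
    show X.obj.hom.residueDegree x = 1 from residueDegree_toPt X x hc]
  simp

/-- Compatibility of classes of cycles with push-forward. -/
lemma tr_clCyc_map (f : X ⟶ Y) [QuasiCompact (sm f)]
    (δX : X.obj.left → ℤ) (hδX : Cyc.DeltaCompat X.obj.hom δX (fun _ => 0))
    (δY : Y.obj.left → ℤ) (hδY : Cyc.DeltaCompat Y.obj.hom δY (fun _ => 0))
    (α : AlgebraicCycle X.obj.left ℤ) (b : T.H Y) :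
    T.tr Y (T.clCyc Y (AlgebraicCycle.map (sm f) δX δY α) * b) =
      T.tr X (T.clCyc X α * T.pull f b) := by
  classical
  rw [clCyc_eq_sum T α, Finset.sum_mul, map_sum]
  have h : T.clCyc Y (AlgebraicCycle.map (sm f) δX δY α) = ∑ x ∈ suppFinset α,
      ((α x * (if δX x = δY (sm f x) then ((sm f).residueDegree x : ℤ) else 0) : ℤ) : K) •
        T.cl Y (sm f x) := by
    refine (finsum_eq_sum_of_support_subset _ (s := (suppFinset α).image (sm f)) ?_).trans ?_
    · intro y hy
      rw [Finset.coe_image]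
      by_contra hne
      apply hy
      simp only [map_apply_eq_sum]
      rw [Finset.sum_eq_zero fun x hx => if_neg fun hxy => hne ⟨x, hx, hxy⟩]
      simp
    · simp only [map_apply_eq_sum, Int.cast_sum, Finset.sum_smul]
      rw [Finset.sum_comm]
      refine Finset.sum_congr rfl fun x hx => ?_
      rw [Finset.sum_eq_single (sm f x)]
      · rw [if_pos rfl]
      · intro y _ hne
        rw [if_neg (Ne.symm hne)]
        simp
      · intro h
        exact absurd (Finset.mem_image_of_mem _ hx) h
  rw [h, Finset.sum_mul, map_sum]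
  refine Finset.sum_congr rfl fun x _ => ?_
  rw [smul_mul_assoc, smul_mul_assoc, map_smul, map_smul, smul_eq_mul, smul_eq_mul, tr_cl_pull]
  by_cases hd : (sm f).residueDegree x = 0
  · simp [hd]
  · rw [if_pos (by rw [eq_pdim_of_deltaCompat X.obj.hom hδX, eq_pdim_of_deltaCompat Y.obj.hom hδY,
      pdim_eq_of_residueDegree_ne_zero X.obj.hom Y.obj.hom (sm f) (Over.w f.hom) x hd])]
    push_cast
    ring

end Groth.Agent.WeilLib

end
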