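import Mathlib
import Groth.Agent.WeilLib.Basic

/-!
# Classes on a product: dual bases and expansions
-/

set_option autoImplicit false
set_option linter.unusedSectionVars false
universe u v

open AlgebraicGeometry CategoryTheory WeilCoh TensorProduct

noncomputable section

namespace Groth.Agent.WeilLib

variable {k : Type u} [Field k] [IsAlgClosed k] {K : Type v} [Field K] [CharZero K]
  (T : WeilCoh.Theory k K) {X Y Q : WeilCoh.Var k} {p : Q ⟶ X} {q : Q ⟶ Y}

lemma zsign_eq {a b : ℤ} (h : Even (a - b)) : ((-1 : K) ^ a) = (-1 : K) ^ b := by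
  rw [← sub_add_cancel a b, zpow_add₀ (by simp), h.neg_one_zpow, one_mul]

lemma zsign_natAbs (a : ℤ) : ((-1 : K) ^ a.natAbs) = (-1 : K) ^ a := by
  rw [← zpow_natCast]
  refine zsign_eq ?_
  rcases Int.natAbs_eq a with h | h
  · rw [← h]; simp
  · exact ⟨-a, by omega⟩

/-- Graded commutativity with integral exponents. -/
lemma mul_comm_z {i j : ℤ} {a b : T.H X} (ha : a ∈ T.gr X i) (hb : b ∈ T.gr X j) :
    a * b = ((-1 : K) ^ (i * j)) • (b * a) := by
  rw [mul_comm_sign T ha hb, ← Int.natAbs_mul, zsign_natAbs]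

lemma eq_zero_of_mem_of_out {i : ℤ} {a : T.H X} (ha : a ∈ T.gr X i)
    (h : i < 0 ∨ 2 * (dim X.obj.left : ℤ) < i) : a = 0 := by
  rw [T.vanish X i h] at ha
  exact (Submodule.mem_bot K).mp ha

/-- Classes on a product are detected by traces against products of homogeneous classes. -/
lemma kunneth_ext (hP : IsProd p q) {z z' : T.H Q}
    (h : ∀ (i j : ℤ), ∀ a ∈ T.gr X i, ∀ b ∈ T.gr Y j,
      T.tr Q (z * (T.pull p a * T.pull q b)) = T.tr Q (z' * (T.pull p a * T.pull q b))) :
    z = z' := by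
  suffices H : ∀ w, T.tr Q (z * w) = T.tr Q (z' * w) from ext_tr T fun _ w _ => H w
  intro w
  obtain ⟨t, rfl⟩ := (T.kunneth p q hP).2 w
  induction t using TensorProduct.induction_on with
  | zero => simp
  | add x y hx hy => simp [mul_add, hx, hy]
  | tmul a b =>
    change T.tr Q (z * (T.pull p a * T.pull q b)) = T.tr Q (z' * (T.pull p a * T.pull q b))
    induction a using gr_induction T with
    | hz => simp
    | hadd x y hx hy => simp [add_mul, mul_add, hx, hy]
    | hg i a ha =>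
      induction b using gr_induction T with
      | hz => simp
      | hadd x y hx hy => simp [mul_add, hx, hy]
      | hg j b hb => exact h i j a ha b hb

/-- Bases with dual families. -/
lemma exists_dual {X : WeilCoh.Var k} {ι : Type} [DecidableEq ι] [Fintype ι] (r : ℤ)
    (e : Module.Basis ι K (T.gr X r)) :
    ∃ f : ι → T.gr X (2 * (dim X.obj.left : ℤ) - r),
      ∀ i l, T.tr X ((f l : T.H X) * (e i : T.H X)) = if i = l then 1 else 0 := by
  have := T.duality X (2 * (dim X.obj.left : ℤ) - r) r (by ring)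
  refine ⟨fun l => (pairing K (T.gr X (2 * (dim X.obj.left : ℤ) - r)) (T.gr X r)
    (T.tr X)).toPerfPair.symm (e.coord l), fun i l => ?_⟩
  refine (LinearMap.congr_fun (LinearMap.apply_symm_toPerfPair_self
    (pairing K (T.gr X (2 * (dim X.obj.left : ℤ) - r)) (T.gr X r) (T.tr X)) (e.coord l)) (e i)).trans ?_
  simp [Finsupp.single_apply]

lemma tr_dual {X : WeilCoh.Var k} {ι : Type} [DecidableEq ι] [Fintype ι] {r s : ℤ}
    (e : Module.Basis ι K (T.gr X r)) (f : ι → T.gr X s)
    (hef : ∀ i l, T.tr X ((f l : T.H X) * (e i : T.H X)) = if i = l then 1 else 0)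
    (b : T.gr X r) (l : ι) : T.tr X ((f l : T.H X) * (b : T.H X)) = e.repr b l := by
  have h : (b : T.H X) = ∑ i, e.repr b i • (e i : T.H X) := by
    have h' := congrArg Subtype.val (e.sum_repr b)
    simp only [Submodule.coe_sum, Submodule.coe_smul] at h'
    exact h'.symm
  rw [h, Finset.mul_sum, map_sum]
  simp [map_smul, hef]

lemma sum_dual {X : WeilCoh.Var k} {M : Type*} [AddCommGroup M] [Module K M] {ι : Type}
    [DecidableEq ι] [Fintype ι] {r s : ℤ}
    (e : Module.Basis ι K (T.gr X r)) (f : ι → T.gr X s)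
    (hef : ∀ i l, T.tr X ((f l : T.H X) * (e i : T.H X)) = if i = l then 1 else 0)
    (g : T.gr X r →ₗ[K] M) (b : T.gr X r) :
    ∑ l, T.tr X ((f l : T.H X) * (b : T.H X)) • g (e l) = g b := by
  simp only [tr_dual T e f hef, ← map_smul, ← map_sum, e.sum_repr]

variable {ι : ℕ → Type} [∀ r, Fintype (ι r)] [∀ r, DecidableEq (ι r)]
  (e : (r : ℕ) → Module.Basis (ι r) K (T.gr X (r : ℤ)))
  (f : (r : ℕ) → ι r → T.gr X (2 * (dim X.obj.left : ℤ) - r))

/-- The class attached to a family of linear maps of degree `m - 2 dim X`. -/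
def expansion (p : Q ⟶ X) (q : Q ⟶ Y) (g : ∀ s : ℕ, T.gr X (s : ℤ) →ₗ[K] T.H Y) : T.H Q :=
  ∑ s ∈ Finset.range (2 * dim X.obj.left + 1),
    (-1 : K) ^ s • ∑ l, T.pull p (f s l : T.H X) * T.pull q (g s (e s l))

variable (hef : ∀ r, r ≤ 2 * dim X.obj.left → ∀ i l : ι r,
  T.tr X ((f r l : T.H X) * (e r i : T.H X)) = if i = l then 1 else 0)
include hef

lemma expansion_mem {m : ℤ} (g : ∀ s : ℕ, T.gr X (s : ℤ) →ₗ[K] T.H Y)
    (hg : ∀ (s : ℕ) (a : T.gr X (s : ℤ)), g s a ∈ T.gr Y ((s : ℤ) + m - 2 * dim X.obj.left)) :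
    expansion T e f p q g ∈ T.gr Q m := by
  refine Submodule.sum_mem _ fun s _ => Submodule.smul_mem _ _ (Submodule.sum_mem _ fun l _ => ?_)
  have := SetLike.mul_mem_graded (T.pull_mem p _ _ (f s l).2) (T.pull_mem q _ _ (hg s (e s l)))
  rwa [show 2 * (dim X.obj.left : ℤ) - s + ((s : ℤ) + m - 2 * dim X.obj.left) = m by ring] at this

lemma tr_expansion_mul (hP : IsProd p q) {m : ℤ} (g : ∀ s : ℕ, T.gr X (s : ℤ) →ₗ[K] T.H Y)
    (hg : ∀ (s : ℕ) (a : T.gr X (s : ℤ)), g s a ∈ T.gr Y ((s : ℤ) + m - 2 * dim X.obj.left))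
    (s : ℕ) (hs : s ≤ 2 * dim X.obj.left) (a : T.gr X (s : ℤ)) {j : ℤ} {b : T.H Y}
    (hb : b ∈ T.gr Y j) :
    T.tr Q (expansion T e f p q g * (T.pull p (a : T.H X) * T.pull q b)) =
      (-1 : K) ^ (m * (s : ℤ)) * T.tr Y (g s a * b) := by
  rw [expansion, Finset.sum_mul, map_sum, Finset.sum_eq_single s]
  · rw [smul_mul_assoc, map_smul, Finset.sum_mul, map_sum]
    have key : ∀ l, T.tr Q (T.pull p (f s l : T.H X) * T.pull q (g s (e s l)) *
        (T.pull p (a : T.H X) * T.pull q b)) =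
        (-1 : K) ^ (((s : ℤ) + m - 2 * dim X.obj.left) * (s : ℤ)) *
          (T.tr X ((f s l : T.H X) * a) * T.tr Y (g s (e s l) * b)) := by
      intro l
      rw [mul_assoc, ← mul_assoc (T.pull q (g s (e s l))),
        mul_comm_z T (T.pull_mem q _ _ (hg s (e s l))) (T.pull_mem p _ _ a.2), smul_mul_assoc,
        mul_smul_comm, map_smul, smul_eq_mul, mul_assoc, ← map_mul (T.pull q), ← mul_assoc,
        ← map_mul (T.pull p), tr_prod' T p q hP (SetLike.mul_mem_graded (f s l).2 a.2)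
          (SetLike.mul_mem_graded (hg s (e s l)) hb)]
    simp only [key, ← Finset.mul_sum, smul_eq_mul]
    have hsum : ∑ l, T.tr X ((f s l : T.H X) * a) * T.tr Y (g s (e s l) * b) =
        T.tr Y (g s a * b) := by
      conv_rhs => rw [← sum_dual T (e s) (f s) (hef s hs) (g s) a]
      rw [Finset.sum_mul, map_sum]
      simp [map_smul]
    rw [hsum, ← mul_assoc]
    congr 1
    rw [← zpow_natCast (-1 : K) s, ← zpow_add₀ (by simp)]
    refine zsign_eq ?_
    rcases Int.even_or_odd (s : ℤ) with ⟨t, ht⟩ | ⟨t, ht⟩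
    · exact ⟨t + ((s : ℤ) - 2 * dim X.obj.left) * t, by rw [ht]; ring⟩
    · exact ⟨(t + 1) * (2 * t + 1) - (dim X.obj.left : ℤ) * s, by rw [ht]; ring⟩
  · intro r _ hr
    rw [smul_mul_assoc, map_smul, Finset.sum_mul, map_sum, Finset.sum_eq_zero, smul_zero]
    intro l _
    rw [mul_assoc, ← mul_assoc (T.pull q (g r (e r l))),
      mul_comm_z T (T.pull_mem q _ _ (hg r (e r l))) (T.pull_mem p _ _ a.2), smul_mul_assoc,
      mul_smul_comm, map_smul, smul_eq_mul, mul_assoc, ← map_mul (T.pull q), ← mul_assoc,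
      ← map_mul (T.pull p), tr_prod' T p q hP (SetLike.mul_mem_graded (f r l).2 a.2)
        (SetLike.mul_mem_graded (hg r (e r l)) hb),
      tr_mul_eq_zero T (f r l).2 a.2 (by omega), zero_mul, mul_zero]
  · intro h
    exact absurd (Finset.mem_range.mpr (by omega)) h

/-- A class is the expansion of the maps it induces. -/
lemma eq_expansion (hP : IsProd p q) {m : ℤ} {φ : T.H Q} (hφ : φ ∈ T.gr Q m)
    (g : ∀ s : ℕ, T.gr X (s : ℤ) →ₗ[K] T.H Y)
    (hg : ∀ (s : ℕ) (a : T.gr X (s : ℤ)), g s a ∈ T.gr Y ((s : ℤ) + m - 2 * dim X.obj.left))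
    (htr : ∀ (s : ℕ) (a : T.gr X (s : ℤ)) (b : T.H Y),
      T.tr Y (g s a * b) = T.tr Q (T.pull p (a : T.H X) * φ * T.pull q b)) :
    φ = expansion T e f p q g := by
  refine kunneth_ext T hP fun i j a ha b hb => ?_
  rcases lt_or_ge i 0 with hi | hi
  · simp [eq_zero_of_mem_of_out T ha (Or.inl hi)]
  obtain ⟨s, rfl⟩ : ∃ s : ℕ, i = (s : ℤ) := ⟨i.toNat, (Int.toNat_of_nonneg hi).symm⟩
  by_cases hs : s ≤ 2 * dim X.obj.left
  · rw [tr_expansion_mul T e f hef hP g hg s hs ⟨a, ha⟩ hb, htr s ⟨a, ha⟩ b, ← mul_assoc,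
      mul_comm_z T hφ (T.pull_mem p _ _ ha), smul_mul_assoc, map_smul, smul_eq_mul]
  · simp [eq_zero_of_mem_of_out T ha (Or.inr (by omega))]

omit hef

/-- Bases with dual families in all degrees. -/
lemma exists_bases (X : WeilCoh.Var k) :
    ∃ (e : (r : ℕ) → Module.Basis (Fin (Module.finrank K (T.gr X (r : ℤ)))) K (T.gr X (r : ℤ)))
      (f : (r : ℕ) → Fin (Module.finrank K (T.gr X (r : ℤ))) → T.gr X (2 * (dim X.obj.left : ℤ) - r)),
      ∀ r, r ≤ 2 * dim X.obj.left → ∀ i l,
        T.tr X ((f r l : T.H X) * (e r i : T.H X)) = if i = l then 1 else 0 := by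
  choose f hf using fun r : ℕ => exists_dual T (r : ℤ) (Module.finBasis K (T.gr X (r : ℤ)))
  exact ⟨fun r => Module.finBasis K (T.gr X (r : ℤ)), f, fun r _ => hf r⟩

lemma trace_eq_sum {X : WeilCoh.Var k} {ι : Type} [DecidableEq ι] [Fintype ι] {r s : ℤ}
    (e : Module.Basis ι K (T.gr X r)) (f : ι → T.gr X s)
    (hef : ∀ i l, T.tr X ((f l : T.H X) * (e i : T.H X)) = if i = l then 1 else 0)
    (L : T.gr X r →ₗ[K] T.gr X r) :
    LinearMap.trace K (T.gr X r) L = ∑ l, T.tr X ((f l : T.H X) * (L (e l) : T.H X)) := by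
  rw [LinearMap.trace_eq_matrix_trace K e]
  simp [Matrix.trace, LinearMap.toMatrix_apply, tr_dual T e f hef]

/-- The trace on a product computed after the swap. -/
lemma tr_pull_swap {P P' : WeilCoh.Var k} {p : P ⟶ X} {q : P ⟶ Y} (hP : IsProd p q)
    {p' : P' ⟶ Y} {q' : P' ⟶ X} (hP' : IsProd p' q') (σ : P ⟶ P') (h₁ : σ ≫ p' = q)
    (h₂ : σ ≫ q' = p) (z : T.H P') : T.tr P (T.pull σ z) = T.tr P' z := by
  obtain ⟨t, rfl⟩ := (T.kunneth p' q' hP').2 z
  induction t using TensorProduct.induction_on with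
  | zero => simp
  | add x y hx hy => simp only [map_add, hx, hy]
  | tmul c a =>
    change T.tr P (T.pull σ (T.pull p' c * T.pull q' a)) = T.tr P' (T.pull p' c * T.pull q' a)
    rw [map_mul, pull_pull, pull_pull, h₁, h₂]
    induction a using gr_induction T with
    | hz => simp
    | hadd x y hx hy => simp only [map_add, mul_add, hx, hy]
    | hg i a ha =>
      induction c using gr_induction T with
      | hz => simp
      | hadd x y hx hy => simp only [map_add, add_mul, hx, hy]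
      | hg j c hc =>
        rw [mul_comm_z T (T.pull_mem q j c hc) (T.pull_mem p i a ha), map_smul, smul_eq_mul,
          tr_prod' T p q hP ha hc, tr_prod' T p' q' hP' hc ha]
        by_cases hi : i = 2 * (dim X.obj.left : ℤ)
        · rw [Even.neg_one_zpow ((hi ▸ even_two_mul _ : Even i).mul_left _)]
          ring
        · rw [T.tr_vanish X i a ha hi]
          ring

end Groth.Agent.WeilLib

end
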