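import Mathlib
import Groth.Agent.WeilLib.Basic
import Groth.Agent.BMCoh.Topology
import Groth.Agent.ZetaAlg.FrobDeg
import Groth.Agent.ZetaAlg.Generate

/-!
# The relative Frobenius of a variety descended to a finite field
-/

set_option autoImplicit false
set_option linter.unusedSectionVars false
universe u v

open AlgebraicGeometry CategoryTheory WeilCoh

noncomputable section

namespace Groth.Agent.WeilLib

/-- A variety over `k` descended to `k₀`, with its relative Frobenius. -/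
structure FrobSetting (k₀ : Type u) [Field k₀] [Finite k₀] (k : Type u) [Field k] [IsAlgClosed k]
    [Algebra k₀ k] where
  X : Scheme.{u}
  f : X ⟶ Spec (CommRingCat.of k₀)
  FX : X ⟶ X
  base : FX.base = 𝟙 _
  hle : ∀ U : X.Opens, U ≤ FX ⁻¹ᵁ U
  happ : ∀ (U : X.Opens) (s : Γ(X, U)), (FX.appLE U U (hle U)).hom s = s ^ Nat.card k₀
  Xb : WeilCoh.Var k
  π : Xb.obj.left ⟶ X
  hπ : IsPullback π Xb.obj.hom f (Spec.map (CommRingCat.ofHom (algebraMap k₀ k)))
  F : Xb ⟶ Xb
  hF : WeilCoh.sm F ≫ π = π ≫ FX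

namespace FrobSetting

variable {k₀ : Type u} [Field k₀] [Finite k₀] {k : Type u} [Field k] [IsAlgClosed k] [Algebra k₀ k]
  (D : FrobSetting k₀ k)

lemma π_F (z : D.Xb.obj.left) : D.π (sm D.F z) = D.π z := by
  rw [← Scheme.Hom.comp_apply, D.hF, Scheme.Hom.comp_apply]
  exact congrArg (fun g => g (D.π z)) (congrArg TopCat.Hom.hom D.base)

lemma preimage_le (U : D.X.Opens) : D.π ⁻¹ᵁ U ≤ sm D.F ⁻¹ᵁ (D.π ⁻¹ᵁ U) := fun z hz => by
  change D.π (sm D.F z) ∈ U
  rw [π_F]
  exact hz

/-- The relative Frobenius on the sections over the preimage of an open. -/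
def frob (U : D.X.Opens) : Γ(D.Xb.obj.left, D.π ⁻¹ᵁ U) ⟶ Γ(D.Xb.obj.left, D.π ⁻¹ᵁ U) :=
  (sm D.F).appLE _ _ (D.preimage_le U)

lemma le_preimage_top (U : D.X.Opens) : D.π ⁻¹ᵁ U ≤ D.Xb.obj.hom ⁻¹ᵁ ⊤ := fun _ _ => trivial

/-- The constants in the sections over the preimage of an open. -/
def constMap (U : D.X.Opens) : Γ(Spec (CommRingCat.of k), ⊤) ⟶ Γ(D.Xb.obj.left, D.π ⁻¹ᵁ U) :=
  D.Xb.obj.hom.appLE ⊤ (D.π ⁻¹ᵁ U) (D.le_preimage_top U)

lemma mem_F {U : D.X.Opens} {z : D.Xb.obj.left} (hz : z ∈ D.π ⁻¹ᵁ U) :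
    sm D.F z ∈ D.π ⁻¹ᵁ U :=
  D.preimage_le U hz

lemma frob_π (U : D.X.Opens) (a : Γ(D.X, U)) :
    (D.frob U).hom ((D.π.app U).hom a) = (D.π.app U).hom a ^ Nat.card k₀ := by
  rw [← map_pow, ← D.happ U a, ← CommRingCat.comp_apply, ← CommRingCat.comp_apply]
  congr 2
  rw [frob, Scheme.Hom.app_eq_appLE, Scheme.Hom.appLE_comp_appLE, Scheme.Hom.appLE_comp_appLE]
  simp only [D.hF]

lemma frob_const (U : D.X.Opens) (c : Γ(Spec (CommRingCat.of k), ⊤)) :
    (D.frob U).hom ((D.constMap U).hom c) =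
      (D.constMap U).hom c := by
  rw [← CommRingCat.comp_apply]
  congr 2
  rw [frob, constMap, Scheme.Hom.appLE_comp_appLE]
  simp only [show sm D.F ≫ D.Xb.obj.hom = D.Xb.obj.hom from Over.w D.F.hom]

lemma exists_char : ∃ (p e : ℕ), Fact p.Prime ∧ CharP k₀ p ∧ CharP k p ∧ Nat.card k₀ = p ^ e := by
  obtain ⟨p, hp⟩ := CharP.exists k₀
  have := Fintype.ofFinite k₀
  obtain ⟨e, hpp, hc⟩ := FiniteField.card k₀ p
  exact ⟨p, e, ⟨hpp⟩, hp, charP_of_injective_algebraMap (algebraMap k₀ k).injective p,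
    Nat.card_eq_fintype_card.trans hc⟩

lemma exists_root (c : Γ(Spec (CommRingCat.of k), ⊤)) :
    ∃ d, d ^ Nat.card k₀ = c := by
  let e := (Scheme.ΓSpecIso (CommRingCat.of k)).commRingCatIsoToRingEquiv
  obtain ⟨d, hd⟩ := IsAlgClosed.exists_pow_nat_eq (e c) (n := Nat.card k₀) Nat.card_pos
  exact ⟨e.symm d, by rw [← map_pow, hd, e.symm_apply_apply]⟩

/-- The power map on sections over an affine piece, as a ring map. -/
lemma exists_powHom (U : D.X.Opens) (hne : (D.π ⁻¹ᵁ U : Set D.Xb.obj.left).Nonempty) :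
    ∃ P : Γ(D.Xb.obj.left, D.π ⁻¹ᵁ U) →+* Γ(D.Xb.obj.left, D.π ⁻¹ᵁ U),
      ∀ b, P b = b ^ Nat.card k₀ := by
  obtain ⟨p, e, hp, -, hk, hq⟩ := exists_char (k₀ := k₀) (k := k)
  let cst : CommRingCat.of k ⟶ Γ(D.Xb.obj.left, D.π ⁻¹ᵁ U) :=
    (Scheme.ΓSpecIso (CommRingCat.of k)).inv ≫ D.constMap U
  have : Nontrivial Γ(D.Xb.obj.left, D.π ⁻¹ᵁ U) := by
    obtain ⟨z, hz⟩ := hne
    exact (D.Xb.obj.left.evaluation _ z hz).hom.domain_nontrivial
  have : CharP Γ(D.Xb.obj.left, D.π ⁻¹ᵁ U) p :=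
    charP_of_injective_ringHom (RingHom.injective cst.hom) p
  have : ExpChar Γ(D.Xb.obj.left, D.π ⁻¹ᵁ U) p := .prime hp.out
  exact ⟨iterateFrobenius _ p e, fun b => by rw [iterateFrobenius_def, hq]⟩

/-- The image of the relative Frobenius is the set of `q`-th powers. -/
lemma frob_range {U : D.X.Opens} (hU : IsAffineOpen U)
    (hne : (D.π ⁻¹ᵁ U : Set D.Xb.obj.left).Nonempty) (b : Γ(D.Xb.obj.left, D.π ⁻¹ᵁ U)) :
    (∃ b', (D.frob U).hom b = b' ^ Nat.card k₀) ∧ ∃ b', (D.frob U).hom b' = b ^ Nat.card k₀ := by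
  obtain ⟨P, hP⟩ := D.exists_powHom U hne
  have h₁ : (P.range.comap (D.frob U).hom) = ⊤ := by
    refine Groth.Agent.ZetaAlg.subring_eq_top D.hπ hU _ (fun a => ?_) fun c => ?_
    · rw [Subring.mem_comap]
      exact ⟨(D.π.app U).hom a, by rw [hP, frob_π]⟩
    · obtain ⟨d, hd⟩ := exists_root (k₀ := k₀) c
      change (D.constMap U).hom c ∈ _
      rw [Subring.mem_comap, frob_const]
      exact ⟨(D.constMap U).hom d, by rw [hP, ← map_pow, hd]⟩
  have h₂ : ((D.frob U).hom.range.comap P) = ⊤ := by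
    refine Groth.Agent.ZetaAlg.subring_eq_top D.hπ hU _ (fun a => ?_) fun c => ?_
    · rw [Subring.mem_comap]
      exact ⟨(D.π.app U).hom a, by rw [hP, frob_π]⟩
    · change (D.constMap U).hom c ∈ _
      rw [Subring.mem_comap]
      exact ⟨(D.constMap U).hom (c ^ Nat.card k₀),
        by rw [hP, frob_const, map_pow]⟩
  refine ⟨?_, ?_⟩
  · obtain ⟨b', hb'⟩ := Subring.mem_comap.mp (h₁.ge (Subring.mem_top b))
    exact ⟨b', by rw [← hP, hb']⟩
  · obtain ⟨b', hb'⟩ := Subring.mem_comap.mp (h₂.ge (Subring.mem_top b))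
    exact ⟨b', by rw [hb', hP]⟩

lemma frob_evaluation (U : D.X.Opens) (z : D.Xb.obj.left) (hz : z ∈ D.π ⁻¹ᵁ U)
    (b : Γ(D.Xb.obj.left, D.π ⁻¹ᵁ U)) :
    ((sm D.F).residueFieldMap z).hom
        ((D.Xb.obj.left.evaluation (D.π ⁻¹ᵁ U) (sm D.F z) (D.mem_F hz)).hom b) =
      (D.Xb.obj.left.evaluation (D.π ⁻¹ᵁ U) z hz).hom ((D.frob U).hom b) := by
  refine (Scheme.evaluation_naturality_apply (sm D.F) z (D.mem_F hz) b).trans ?_
  rw [frob, Scheme.Hom.appLE, ← CommRingCat.comp_apply, ← CommRingCat.comp_apply]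
  congr 2
  rw [Category.assoc]
  congr 1
  simp only [Scheme.evaluation]
  rw [D.Xb.obj.left.presheaf.germ_res_assoc]

/-- The image of the residue field map of the relative Frobenius. -/
lemma residueFieldMap_range (z : D.Xb.obj.left) :
    (∀ w, ∃ y, ((sm D.F).residueFieldMap z).hom w = y ^ Nat.card k₀) ∧
      ∀ y : D.Xb.obj.left.residueField z, ∃ w, ((sm D.F).residueFieldMap z).hom w = y ^ Nat.card k₀ := by
  obtain ⟨U, hU, hzU, -⟩ := exists_isAffineOpen_mem_and_subset (X := D.X) (x := D.π z) (U := ⊤) trivial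
  have hV : IsAffineOpen (D.π ⁻¹ᵁ U) := by
    have : IsAffineHom D.π := MorphismProperty.of_isPullback D.hπ.flip inferInstance
    exact hU.preimage D.π
  have hz : z ∈ D.π ⁻¹ᵁ U := hzU
  refine ⟨fun w => ?_, fun y => ?_⟩
  · obtain ⟨a, b, hb, h⟩ := DimTrdeg.exists_evaluation_fraction hV (sm D.F z) (D.mem_F hz) w
    obtain ⟨a', ha'⟩ := (D.frob_range hU ⟨z, hz⟩ a).1
    obtain ⟨b', hb'⟩ := (D.frob_range hU ⟨z, hz⟩ b).1
    refine ⟨(D.Xb.obj.left.evaluation _ z hz).hom a' / (D.Xb.obj.left.evaluation _ z hz).hom b', ?_⟩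
    rw [div_pow, ← map_pow, ← map_pow, ← ha', ← hb', ← frob_evaluation, ← frob_evaluation,
      eq_div_iff (by simpa using hb), ← map_mul, h]
  · obtain ⟨a, b, hb, h⟩ := DimTrdeg.exists_evaluation_fraction hV z hz y
    obtain ⟨a', ha'⟩ := (D.frob_range hU ⟨z, hz⟩ a).2
    obtain ⟨b', hb'⟩ := (D.frob_range hU ⟨z, hz⟩ b).2
    refine ⟨(D.Xb.obj.left.evaluation _ (sm D.F z) (D.mem_F hz)).hom a' /
      (D.Xb.obj.left.evaluation _ (sm D.F z) (D.mem_F hz)).hom b', ?_⟩
    rw [map_div₀, frob_evaluation _ _ _ hz, frob_evaluation _ _ _ hz, ha', hb', map_pow, map_pow,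
      ← div_pow, ← h, mul_div_cancel_right₀ _ hb]

/-- The relative Frobenius fixes the generic point. -/
lemma map_genericPoint :
    sm D.F (genericPoint D.Xb.obj.left) = genericPoint D.Xb.obj.left := by
  let η := genericPoint D.Xb.obj.left
  let h := sm D.F
  let g := D.Xb.obj.hom
  have hg : h ≫ g = g := Over.w D.F.hom
  have : LocallyOfFiniteType (h ≫ g) := by rw [hg]; infer_instance
  have key : td (h ≫ g) η = td g (h η) := by
    let _ := (g.residueFieldMap (h η)).hom.toAlgebra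
    let _ := (h.residueFieldMap η).hom.toAlgebra
    let _ : Algebra ((Spec (CommRingCat.of k)).residueField (g (h η))) (D.Xb.obj.left.residueField η) :=
      ((h ≫ g).residueFieldMap η).hom.toAlgebra
    have : IsScalarTower ((Spec (CommRingCat.of k)).residueField (g (h η)))
        (D.Xb.obj.left.residueField (h η)) (D.Xb.obj.left.residueField η) :=
      IsScalarTower.of_algebraMap_eq' (congrArg CommRingCat.Hom.hom
        (Scheme.residueFieldMap_comp h g η))
    have : Algebra.IsAlgebraic (D.Xb.obj.left.residueField (h η)) (D.Xb.obj.left.residueField η) := by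
      refine ⟨fun y => ?_⟩
      obtain ⟨w, hw⟩ := (D.residueFieldMap_range η).2 y
      exact (IsIntegral.of_pow Nat.card_pos (by rw [← hw]; exact isIntegral_algebraMap (x := w))).isAlgebraic
    exact DimTrdeg.trdeg_eq_of_isAlgebraic ((Spec (CommRingCat.of k)).residueField (g (h η)))
      (D.Xb.obj.left.residueField (h η)) (D.Xb.obj.left.residueField η)
  have h₁ := (td_eq_pdim g (h η)).1
  have h₂ := (td_eq_pdim (h ≫ g) η).1
  rw [← key, h₂] at h₁
  have hpd : WeilCoh.pdim D.Xb.obj.left (h η) = WeilCoh.dim D.Xb.obj.left := by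
    rw [← pdim_genericPoint]
    exact_mod_cast h₁.symm
  have hdense : Dense (closure ({h η} : Set D.Xb.obj.left)) := by
    by_contra hnd
    have := Groth.Agent.BMCoh.topologicalKrullDim_add_one_le
      (f := (Subtype.val : closure ({h η} : Set D.Xb.obj.left) → D.Xb.obj.left))
      Topology.IsInducing.subtypeVal (by rwa [Subtype.range_coe])
    rw [(td_eq_pdim g (h η)).2, topologicalKrullDim_eq, hpd, pdim_genericPoint] at this
    have hle : WeilCoh.dim D.Xb.obj.left + 1 ≤ WeilCoh.dim D.Xb.obj.left := by exact_mod_cast this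
    omega
  have : closure ({h η} : Set D.Xb.obj.left) = Set.univ := by
    rw [← closure_closure]
    exact hdense.closure_eq
  exact IsGenericPoint.eq this (genericPoint_spec _)

/-- The degree of the relative Frobenius at the generic point is `q ^ dim`. -/
lemma residueDegree_genericPoint :
    (sm D.F).residueDegree (genericPoint D.Xb.obj.left) =
      Nat.card k₀ ^ WeilCoh.dim D.Xb.obj.left := by
  classical
  obtain ⟨p, e, hp, -, hk, hq⟩ := exists_char (k₀ := k₀) (k := k)
  let η := genericPoint D.Xb.obj.left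
  let g := D.Xb.obj.hom
  let κ := D.Xb.obj.left.residueField η
  let κ₀ := (Spec (CommRingCat.of k)).residueField (g η)
  let e₀ : CommRingCat.of k ⟶ κ₀ := (Scheme.ΓSpecIso (CommRingCat.of k)).inv ≫
    (Spec (CommRingCat.of k)).Γevaluation (g η)
  let _ : Algebra k κ₀ := e₀.hom.toAlgebra
  let _ : Algebra k κ := (e₀ ≫ g.residueFieldMap η).hom.toAlgebra
  let _ : Algebra κ₀ κ := (g.residueFieldMap η).hom.toAlgebra
  have : IsScalarTower k κ₀ κ := IsScalarTower.of_algebraMap_eq' rfl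
  have hb : Function.Bijective (algebraMap k κ₀) := DimTrdeg.bijective_evaluation_Spec (g η)
  have : Algebra.IsAlgebraic k κ₀ := ⟨fun z => by
    obtain ⟨c, rfl⟩ := hb.2 z; exact isAlgebraic_algebraMap c⟩
  have htr : Algebra.trdeg k κ = (WeilCoh.dim D.Xb.obj.left : Cardinal.{u}) := by
    rw [← trdeg_add_eq k κ₀ (A := κ), trdeg_eq_zero (R := k) (A := κ₀), zero_add, ← pdim_genericPoint]
    exact (td_eq_pdim g η).1
  -- `κ` is finitely generated over `k`
  obtain ⟨W, hW, hηW, -⟩ := exists_isAffineOpen_mem_and_subset (X := D.Xb.obj.left) (x := η)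
    (U := ⊤) trivial
  let φ : CommRingCat.of k ⟶ Γ(D.Xb.obj.left, W) :=
    (Scheme.ΓSpecIso (CommRingCat.of k)).inv ≫ g.appLE ⊤ W (by simp)
  let ev := D.Xb.obj.left.evaluation W η hηW
  have hcomp : φ ≫ ev = e₀ ≫ g.residueFieldMap η := by
    simp only [φ, e₀, ev, Category.assoc, Scheme.Γevaluation_naturality]
    congr 1
    simp only [Scheme.Hom.appLE, Scheme.evaluation, Scheme.Γevaluation, Category.assoc]
    erw [D.Xb.obj.left.presheaf.germ_res_assoc]
    rfl
  let _ : Algebra k Γ(D.Xb.obj.left, W) := φ.hom.toAlgebra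
  let evₐ : Γ(D.Xb.obj.left, W) →ₐ[k] κ :=
    { ev.hom with commutes' := fun c => congrArg (fun f => f.hom c) hcomp }
  have hft : Algebra.FiniteType k Γ(D.Xb.obj.left, W) := by
    refine (RingHom.finiteType_algebraMap).mp ?_
    exact (g.finiteType_appLE (isAffineOpen_top _) hW (by simp)).comp
      (RingHom.FiniteType.of_surjective _
        (Scheme.ΓSpecIso (CommRingCat.of k)).commRingCatIsoToRingEquiv.symm.surjective)
  obtain ⟨S, hS⟩ := hft.out
  obtain ⟨s₀, hs₀⟩ := exists_isTranscendenceBasis k κ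
  have hfin : s₀.Finite := Cardinal.lt_aleph0_iff_set_finite.mp
    (by rw [hs₀.cardinalMk_eq_trdeg, htr]; exact Cardinal.natCast_lt_aleph0)
  have hcard : hfin.toFinset.card = WeilCoh.dim D.Xb.obj.left := by
    have := hs₀.cardinalMk_eq_trdeg
    rw [htr, ← hfin.coe_toFinset] at this
    erw [Cardinal.mk_coe_finset] at this
    exact_mod_cast this
  let s : Fin (WeilCoh.dim D.Xb.obj.left) → κ := fun i =>
    ((hfin.toFinset.equivFinOfCardEq hcard).symm i : κ)
  have hs : IsTranscendenceBasis k s :=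
    hs₀.comp_equiv ((hfin.toFinset.equivFinOfCardEq hcard).symm.trans
      (Equiv.setCongr hfin.coe_toFinset))
  have halg := hs.isAlgebraic_field
  have : FiniteDimensional (IntermediateField.adjoin k (Set.range s)) κ := by
    have h1 := IntermediateField.finiteDimensional_adjoin
      (K := IntermediateField.adjoin k (Set.range s)) (S := (evₐ '' (S : Set Γ(D.Xb.obj.left, W))))
      fun x _ => (Algebra.IsAlgebraic.isAlgebraic x).isIntegral
    have htop : IntermediateField.adjoin (IntermediateField.adjoin k (Set.range s))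
        (evₐ '' (S : Set Γ(D.Xb.obj.left, W))) = ⊤ := by
      apply IntermediateField.restrictScalars_injective k
      rw [IntermediateField.restrictScalars_top, IntermediateField.adjoin_adjoin_left, eq_top_iff]
      intro z _
      have hev : ∀ b, evₐ b ∈ IntermediateField.adjoin k
          (Set.range s ∪ evₐ '' (S : Set Γ(D.Xb.obj.left, W))) := by
        intro b
        have : b ∈ Algebra.adjoin k (S : Set Γ(D.Xb.obj.left, W)) := hS ▸ Algebra.mem_top
        have h2 : evₐ b ∈ (Algebra.adjoin k (S : Set Γ(D.Xb.obj.left, W))).map evₐ := ⟨b, this, rfl⟩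
        rw [AlgHom.map_adjoin] at h2
        exact (Algebra.adjoin_mono Set.subset_union_right).trans
          (IntermediateField.algebra_adjoin_le_adjoin k _) h2
      obtain ⟨a, b, hb0, hab⟩ := DimTrdeg.exists_evaluation_fraction hW η hηW z
      rw [(eq_div_iff hb0).mpr hab]
      exact div_mem (hev a) (hev b)
    rw [htop] at h1
    exact Module.Finite.equiv (IntermediateField.topEquiv
      (F := IntermediateField.adjoin k (Set.range s)) (E := κ)).toLinearEquiv
  have : CharP κ p := charP_of_injective_algebraMap (algebraMap k κ).injective p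
  have : ExpChar κ p := .prime hp.out
  rw [hq, ← Groth.Agent.ZetaAlg.fdeg_iterateFrobenius p s hs.1 e]
  let r := (sm D.F).residueFieldMap η
  change Groth.Agent.ZetaAlg.fdeg r.hom = _
  rw [Groth.Agent.ZetaAlg.fdeg_eq_fdeg_subtype r.hom r.hom.fieldRange fun _ => Iff.rfl,
    Groth.Agent.ZetaAlg.fdeg_eq_fdeg_subtype (iterateFrobenius κ p e) r.hom.fieldRange]
  intro y
  constructor
  · rintro ⟨w, rfl⟩
    obtain ⟨y, hy⟩ := (D.residueFieldMap_range η).1 w
    exact ⟨y, by rw [iterateFrobenius_def, ← hq]; exact hy.symm⟩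
  · rintro ⟨y, rfl⟩
    obtain ⟨w, hw⟩ := (D.residueFieldMap_range η).2 y
    exact ⟨w, by rw [iterateFrobenius_def, ← hq]; exact hw⟩

/-- The trace after pulling back along the relative Frobenius. -/
lemma tr_pull {K : Type v} [Field K] [CharZero K] (T : WeilCoh.Theory k K) (a : T.H D.Xb) :
    T.tr D.Xb (T.pull D.F a) = (Nat.card k₀ : K) ^ WeilCoh.dim D.Xb.obj.left * T.tr D.Xb a := by
  have h := tr_cl_pull T D.F (genericPoint D.Xb.obj.left) a
  rw [map_genericPoint, cl_genericPoint, one_mul, one_mul, residueDegree_genericPoint] at h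
  rw [h]
  push_cast
  rfl

end FrobSetting

end Groth.Agent.WeilLib

end
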