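import Mathlib
import Groth.Agent.WeilLib.Frobenius
import Groth.Agent.ZetaPts.Count

/-!
# Fixed points of the powers of the relative Frobenius
-/

set_option autoImplicit false
set_option linter.unusedSectionVars false
universe u v

open AlgebraicGeometry CategoryTheory WeilCoh

noncomputable section

namespace Groth.Agent.WeilLib

/-- The `q ^ m` power map of an extension of a finite field with `q` elements. -/
def powFrob (k₀ : Type u) [Field k₀] [Finite k₀] (L : Type u) [Field L] [Algebra k₀ L] (m : ℕ) :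
    L →ₐ[k₀] L :=
  letI := Fintype.ofFinite k₀
  (FiniteField.frobeniusAlgHom k₀ L) ^ m

lemma powFrob_apply (k₀ : Type u) [Field k₀] [Finite k₀] (L : Type u) [Field L] [Algebra k₀ L]
    (m : ℕ) (x : L) : powFrob k₀ L m x = x ^ Nat.card k₀ ^ m := by
  let := Fintype.ofFinite k₀
  rw [powFrob, AlgHom.coe_pow, FiniteField.coe_frobeniusAlgHom, pow_iterate,
    Nat.card_eq_fintype_card]

section FixField

variable (k₀ : Type u) [Field k₀] [Finite k₀] (k : Type u) [Field k] [Algebra k₀ k] (m : ℕ)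

/-- The fixed field of a power of Frobenius. -/
def fixField : IntermediateField k₀ k where
  __ := (powFrob k₀ k m).equalizer (AlgHom.id k₀ k)
  inv_mem' := fun x (hx : powFrob k₀ k m x = x) => by
    change powFrob k₀ k m x⁻¹ = x⁻¹
    rw [map_inv₀, hx]

lemma mem_fixField (x : k) : x ∈ fixField k₀ k m ↔ x ^ Nat.card k₀ ^ m = x := by
  change powFrob k₀ k m x = x ↔ _
  rw [powFrob_apply]

variable [IsAlgClosed k] {m}

lemma natCard_fixField (hm : m ≠ 0) :
    Finite (fixField k₀ k m) ∧ Nat.card (fixField k₀ k m) = Nat.card k₀ ^ m := by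
  classical
  obtain ⟨p, hp⟩ := CharP.exists k₀
  let := Fintype.ofFinite k₀
  obtain ⟨e, hpp, hc⟩ := FiniteField.card k₀ p
  have : CharP k p := charP_of_injective_algebraMap (algebraMap k₀ k).injective p
  set Q := Nat.card k₀ ^ m with hQ
  have hQ1 : 1 < Q := Nat.one_lt_pow hm Finite.one_lt_card
  let P : Polynomial k := Polynomial.X ^ Q - Polynomial.X
  have hP : P ≠ 0 := FiniteField.X_pow_card_sub_X_ne_zero k hQ1
  have hset : ((fixField k₀ k m : IntermediateField k₀ k) : Set k) = P.rootSet k := by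
    ext x
    rw [SetLike.mem_coe, mem_fixField, Polynomial.mem_rootSet_of_ne hP]
    simp [P, sub_eq_zero, hQ]
  have hsep : P.Separable := galois_poly_separable p Q (by
    rw [hQ, Nat.card_eq_fintype_card, hc, ← pow_mul]
    exact dvd_pow_self p (Nat.mul_ne_zero e.ne_zero hm))
  have hfin : ((fixField k₀ k m : IntermediateField k₀ k) : Set k).Finite := by
    rw [hset]; exact Polynomial.rootSet_finite _ _
  refine ⟨hfin.to_subtype, ?_⟩
  change Nat.card ((fixField k₀ k m : IntermediateField k₀ k) : Set k) = Q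
  rw [hset, Nat.card_eq_fintype_card, Polynomial.card_rootSet_eq_natDegree hsep
    (IsAlgClosed.splits_domain _)]
  exact FiniteField.X_pow_card_sub_X_natDegree_eq k hQ1

lemma finrank_fixField (hm : m ≠ 0) : Module.finrank k₀ (fixField k₀ k m) = m := by
  obtain ⟨hf, hc⟩ := natCard_fixField k₀ k hm
  have : Module.Finite k₀ (fixField k₀ k m) := Module.Finite.of_finite
  rw [Module.natCard_eq_pow_finrank (K := k₀)] at hc
  exact Nat.pow_right_injective Finite.one_lt_card hc

end FixField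

/-- Morphisms from a field, composed with an absolute Frobenius. -/
lemma comp_frobenius {X : Scheme.{u}} (FX : X ⟶ X)
    (hle : ∀ U : X.Opens, U ≤ FX ⁻¹ᵁ U) (q : ℕ)
    (happ : ∀ (U : X.Opens) (s : Γ(X, U)), (FX.appLE U U (hle U)).hom s = s ^ q)
    {L : Type u} [Field L] (τ : Spec (CommRingCat.of L) ⟶ X) (φ : L →+* L) (hφ : ∀ x, φ x = x ^ q) :
    τ ≫ FX = Spec.map (CommRingCat.ofHom φ) ≫ τ := by
  obtain ⟨U, hU, hxU, -⟩ := exists_isAffineOpen_mem_and_subset
    (X := X) (x := τ (IsLocalRing.closedPoint L)) (U := ⊤) trivial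
  have hr : Set.range τ ⊆ Set.range hU.fromSpec := by
    rintro _ ⟨z, rfl⟩
    rw [hU.range_fromSpec, Subsingleton.elim (α := PrimeSpectrum L) z (IsLocalRing.closedPoint L)]
    exact hxU
  obtain ⟨ψ, rfl⟩ : ∃ ψ : Γ(X, U) ⟶ CommRingCat.of L, Spec.map ψ ≫ hU.fromSpec = τ :=
    ⟨Spec.preimage (IsOpenImmersion.lift hU.fromSpec τ hr),
      by rw [Spec.map_preimage, IsOpenImmersion.lift_fac]⟩
  rw [Category.assoc, ← hU.SpecMap_appLE_fromSpec FX hU (hle U), ← Spec.map_comp_assoc,
    ← Spec.map_comp_assoc]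
  congr 2
  ext x
  rw [CommRingCat.hom_comp, CommRingCat.hom_comp, RingHom.comp_apply, RingHom.comp_apply, happ,
    map_pow, CommRingCat.hom_ofHom, hφ]

namespace FrobSetting

variable {k₀ : Type u} [Field k₀] [Finite k₀] {k : Type u} [Field k] [IsAlgClosed k] [Algebra k₀ k]
  (D : FrobSetting k₀ k)

/-- The powers of the relative Frobenius. -/
def powMor : ℕ → (D.Xb ⟶ D.Xb)
  | 0 => 𝟙 D.Xb
  | m + 1 => powMor m ≫ D.F

lemma sm_powMor_succ (m : ℕ) : sm (D.powMor (m + 1)) = sm (D.powMor m) ≫ sm D.F := rfl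

lemma powMor_hom (m : ℕ) : sm (D.powMor m) ≫ D.Xb.obj.hom = D.Xb.obj.hom :=
  Over.w (D.powMor m).hom

/-- A power of Frobenius on a rational point. -/
lemma point_powMor (s : Spec (CommRingCat.of k) ⟶ D.Xb.obj.left) (m : ℕ) :
    s ≫ sm (D.powMor m) ≫ D.π = Spec.map (CommRingCat.ofHom (powFrob k₀ k m).toRingHom) ≫ s ≫ D.π := by
  induction m with
  | zero =>
    have : CommRingCat.ofHom (powFrob k₀ k 0).toRingHom = 𝟙 (CommRingCat.of k) := by
      ext x
      change powFrob k₀ k 0 x = x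
      rw [powFrob_apply, pow_zero, pow_one]
    rw [this, Spec.map_id, Category.id_comp]
    exact congrArg (s ≫ ·) (Category.id_comp _)
  | succ m ih =>
    rw [sm_powMor_succ, Category.assoc, D.hF, ← Category.assoc (sm _) D.π, ← Category.assoc s, ih,
      Category.assoc, Category.assoc, ← Category.assoc s D.π,
      comp_frobenius D.FX D.hle _ D.happ (s ≫ D.π) (powFrob k₀ k 1).toRingHom
        (fun x => by
          change powFrob k₀ k 1 x = _
          rw [powFrob_apply, pow_one]),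
      ← Category.assoc, ← Spec.map_comp]
    congr 2

/-- The rational points fixed by a power of Frobenius. -/
abbrev FixPt (m : ℕ) : Type u :=
  { s : Spec (CommRingCat.of k) ⟶ D.Xb.obj.left //
    s ≫ D.Xb.obj.hom = 𝟙 _ ∧ s ≫ sm (D.powMor m) = s }

lemma fix_iff {s : Spec (CommRingCat.of k) ⟶ D.Xb.obj.left} (hs : s ≫ D.Xb.obj.hom = 𝟙 _) (m : ℕ) :
    s ≫ sm (D.powMor m) = s ↔
      Spec.map (CommRingCat.ofHom (powFrob k₀ k m).toRingHom) ≫ (s ≫ D.π) = s ≫ D.π := by
  rw [← D.point_powMor s m]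
  constructor
  · intro h
    rw [← Category.assoc, h]
  · intro h
    refine D.hπ.hom_ext (by rw [Category.assoc, h]) ?_
    rw [Category.assoc, D.powMor_hom]

variable [LocallyOfFiniteType D.f]

/-- The fixed rational points are the points with values in the fixed field. -/
lemma exists_fixPt_equiv (m : ℕ) :
    Nonempty (ZetaPts.Pt D.f (fixField k₀ k m) ≃ D.FixPt m) := by
  let i : CommRingCat.of (fixField k₀ k m) ⟶ CommRingCat.of k :=
    CommRingCat.ofHom (fixField k₀ k m).val.toRingHom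
  have hi : CommRingCat.ofHom (algebraMap k₀ (fixField k₀ k m)) ≫ i =
      CommRingCat.ofHom (algebraMap k₀ k) :=
    CommRingCat.hom_ext (fixField k₀ k m).val.comp_algebraMap
  have hiφ : i ≫ CommRingCat.ofHom (powFrob k₀ k m).toRingHom = i := by
    ext x
    exact x.2
  have : Epi (Spec.map i) := by
    have : Surjective (Spec.map i) := ⟨fun z => ⟨IsLocalRing.closedPoint k,
      Subsingleton.elim (α := PrimeSpectrum (fixField k₀ k m)) _ _⟩⟩
    have : Flat (Spec.map i) := by
      rw [HasRingHomProperty.Spec_iff (P := @Flat)]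
      change (algebraMap (fixField k₀ k m) k).Flat
      rw [RingHom.flat_algebraMap_iff]
      exact Module.Flat.of_free
    exact Flat.epi_of_flat_of_surjective _
  let Φ : ZetaPts.Pt D.f (fixField k₀ k m) → D.FixPt m := fun g =>
    have h : (Spec.map i ≫ g.1) ≫ D.f =
        𝟙 _ ≫ Spec.map (CommRingCat.ofHom (algebraMap k₀ k)) := by
      rw [Category.assoc, g.2, ← Spec.map_comp, hi, Category.id_comp]
    ⟨D.hπ.lift (Spec.map i ≫ g.1) (𝟙 _) h, D.hπ.lift_snd _ _ _, by
      rw [D.fix_iff (D.hπ.lift_snd _ _ _), D.hπ.lift_fst, ← Spec.map_comp_assoc, hiφ]⟩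
  refine ⟨Equiv.ofBijective Φ ⟨fun g g' h => ?_, fun s => ?_⟩⟩
  · have h' := congrArg (fun t => t.1 ≫ D.π) h
    simp only [Φ, D.hπ.lift_fst] at h'
    exact Subtype.ext ((cancel_epi (Spec.map i)).mp h')
  · obtain ⟨s, hs, hfix⟩ := s
    rw [D.fix_iff hs] at hfix
    have hτ : (s ≫ D.π) ≫ D.f = Spec.map (CommRingCat.ofHom (algebraMap k₀ k)) := by
      rw [Category.assoc, D.hπ.w, ← Category.assoc, hs, Category.id_comp]
    obtain ⟨⟨y, ι, hι⟩, he⟩ := (ZetaPts.ptEquiv D.f k).symm.surjective ⟨s ≫ D.π, hτ⟩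
    have he' : Spec.map ι ≫ D.X.fromSpecResidueField y = s ≫ D.π := congrArg Subtype.val he
    rw [← he', ← Spec.map_comp_assoc, cancel_mono, Spec.map_inj] at hfix
    let ι' : D.X.residueField y ⟶ CommRingCat.of (fixField k₀ k m) :=
      CommRingCat.ofHom (ι.hom.codRestrict (fixField k₀ k m)
        fun c => congrArg (fun φ : D.X.residueField y ⟶ CommRingCat.of k => φ.hom c) hfix)
    have hι' : ι' ≫ i = ι := rfl
    have hh : ZetaPts.constHom D.f y ≫ ι' =
        CommRingCat.ofHom (algebraMap k₀ (fixField k₀ k m)) := by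
      ext a
      exact congrArg (fun φ : CommRingCat.of k₀ ⟶ CommRingCat.of k => φ.hom a) hι
    refine ⟨⟨Spec.map ι' ≫ D.X.fromSpecResidueField y, by
      rw [Category.assoc, ← ZetaPts.map_constHom, ← Spec.map_comp, hh]⟩, Subtype.ext ?_⟩
    refine D.hπ.hom_ext ?_ ?_
    · rw [D.hπ.lift_fst, ← Spec.map_comp_assoc, hι', he']
    · rw [D.hπ.lift_snd, hs]

variable [QuasiCompact D.f]

/-- The closed points fixed by a power of Frobenius. -/
def fixSet (m : ℕ) : Set D.Xb.obj.left :=
  {x | IsClosed ({x} : Set D.Xb.obj.left) ∧ sm (D.powMor m) x = x}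

lemma finite_fixSet_and_card {m : ℕ} (hm : m ≠ 0) :
    (D.fixSet m).Finite ∧ Nat.card (D.fixSet m) = Zeta.nPts D.f m := by
  have := (natCard_fixField k₀ k hm).1
  obtain ⟨e⟩ := D.exists_fixPt_equiv m
  have hc : Nat.card (D.FixPt m) = Zeta.nPts D.f m := by
    rw [← Nat.card_congr e, ZetaPts.natCard_pt, finrank_fixField k₀ k hm]
  let E := pointEquivClosedPoint D.Xb.obj.hom
  let Ψ : D.FixPt m → D.fixSet m := fun s => ⟨(E ⟨s.1, s.2.1⟩).1, (E ⟨s.1, s.2.1⟩).2, by
    change sm (D.powMor m) (s.1 (IsLocalRing.closedPoint k)) = s.1 (IsLocalRing.closedPoint k)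
    exact congrArg (fun t : Spec (CommRingCat.of k) ⟶ D.Xb.obj.left =>
      t (IsLocalRing.closedPoint k)) s.2.2⟩
  have hΨ : Function.Bijective Ψ := by
    refine ⟨fun s t h => Subtype.ext ?_, fun x => ?_⟩
    · have := E.injective (a₁ := ⟨s.1, s.2.1⟩) (a₂ := ⟨t.1, t.2.1⟩)
        (Subtype.ext (congrArg (fun z : D.fixSet m => (z : D.Xb.obj.left)) h))
      exact congrArg (fun p : { p : Spec (CommRingCat.of k) ⟶ D.Xb.obj.left //
        p ≫ D.Xb.obj.hom = 𝟙 _ } => p.1) this
    let s := E.symm ⟨x.1, x.2.1⟩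
    have hs' : (s.1 ≫ sm (D.powMor m)) ≫ D.Xb.obj.hom = 𝟙 _ := by
      rw [Category.assoc, D.powMor_hom, s.2]
    have hx : s.1 (IsLocalRing.closedPoint k) = x.1 :=
      congrArg Subtype.val (E.apply_symm_apply ⟨x.1, x.2.1⟩)
    have : (⟨_, hs'⟩ : { p // p ≫ D.Xb.obj.hom = 𝟙 _ }) = s := E.injective (Subtype.ext (by
      change sm (D.powMor m) (s.1 (IsLocalRing.closedPoint k)) = s.1 (IsLocalRing.closedPoint k)
      rw [hx, x.2.2]))
    exact ⟨⟨s.1, s.2, congrArg Subtype.val this⟩, Subtype.ext hx⟩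
  have := ZetaPts.finite_pt D.f (fixField k₀ k m)
  have := Finite.of_equiv _ e
  exact ⟨(Finite.of_surjective Ψ hΨ.2 : Finite (D.fixSet m)), (Nat.card_eq_of_bijective Ψ hΨ).symm.trans hc⟩

end FrobSetting

end Groth.Agent.WeilLib

end
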