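import Mathlib
import Groth.Agent.WeilLib.Frobenius
import Groth.Agent.WeilLib.Kunneth
import Groth.Agent.ZetaAlg.Pairing

/-!
# Poincaré duality and the relative Frobenius
-/

set_option autoImplicit false
set_option linter.unusedSectionVars false
universe u v

open AlgebraicGeometry CategoryTheory WeilCoh

noncomputable section

namespace Groth.Agent.WeilLib.FrobSetting

variable {k₀ : Type u} [Field k₀] [Finite k₀] {k : Type u} [Field k] [IsAlgClosed k] [Algebra k₀ k]
  (D : FrobSetting k₀ k) {K : Type v} [Field K] [CharZero K] (T : WeilCoh.Theory k K)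

/-- The determinant identity of the functional equation, on one pair of degrees. -/
lemma det_smul_reverse (i : ℤ) :
    LinearMap.det (T.pullDeg D.F i) •
        (LinearMap.charpoly (T.pullDeg D.F (2 * (WeilCoh.dim D.Xb.obj.left : ℤ) - i))).reverse =
      (-1 : Polynomial K) ^ Module.finrank K ↥(T.gr D.Xb i) *
        (LinearMap.charpoly (T.pullDeg D.F i)).comp
          (Polynomial.C ((Nat.card k₀ : K) ^ WeilCoh.dim D.Xb.obj.left) * Polynomial.X) := by
  have := T.duality D.Xb i (2 * (WeilCoh.dim D.Xb.obj.left : ℤ) - i) (by ring)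
  refine Groth.Agent.ZetaAlg.det_smul_reverse_charpoly
    (WeilCoh.pairing K (T.gr D.Xb i) (T.gr D.Xb (2 * (WeilCoh.dim D.Xb.obj.left : ℤ) - i))
      (T.tr D.Xb)) _ _ _ fun v w => ?_
  change T.tr D.Xb (T.pull D.F (v : T.H D.Xb) * T.pull D.F (w : T.H D.Xb)) = _
  rw [← map_mul (T.pull D.F), tr_pull]
  rfl

lemma finrank_compl (i : ℤ) :
    Module.finrank K ↥(T.gr D.Xb (2 * (WeilCoh.dim D.Xb.obj.left : ℤ) - i)) =
      Module.finrank K ↥(T.gr D.Xb i) := by
  have := T.duality D.Xb i (2 * (WeilCoh.dim D.Xb.obj.left : ℤ) - i) (by ring)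
  exact (Groth.Agent.ZetaAlg.finrank_eq_of_perfPair
    (WeilCoh.pairing K (T.gr D.Xb i) (T.gr D.Xb (2 * (WeilCoh.dim D.Xb.obj.left : ℤ) - i))
      (T.tr D.Xb))).symm

/-- The product of the determinants in complementary degrees. -/
lemma det_mul_det (i : ℤ) :
    LinearMap.det (T.pullDeg D.F (2 * (WeilCoh.dim D.Xb.obj.left : ℤ) - i)) *
        LinearMap.det (T.pullDeg D.F i) =
      (Nat.card k₀ : K) ^ (WeilCoh.dim D.Xb.obj.left * Module.finrank K ↥(T.gr D.Xb i)) := by
  have h := congrArg (Polynomial.coeff · (Module.finrank K ↥(T.gr D.Xb i))) (det_smul_reverse D T i)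
  have h₁ : ((LinearMap.charpoly (T.pullDeg D.F (2 * (WeilCoh.dim D.Xb.obj.left : ℤ) - i))).reverse).coeff
      (Module.finrank K ↥(T.gr D.Xb i)) =
      (LinearMap.charpoly (T.pullDeg D.F (2 * (WeilCoh.dim D.Xb.obj.left : ℤ) - i))).coeff 0 := by
    rw [Polynomial.coeff_reverse, LinearMap.charpoly_natDegree, finrank_compl,
      Polynomial.revAt_le le_rfl, Nat.sub_self]
  have hneg : (-1 : Polynomial K) = Polynomial.C (-1) := by simp
  simp only [Polynomial.coeff_smul, smul_eq_mul, hneg, ← Polynomial.C_pow, Polynomial.coeff_C_mul,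
    Polynomial.comp_C_mul_X_coeff] at h
  have hlead : (LinearMap.charpoly (T.pullDeg D.F i)).coeff (Module.finrank K ↥(T.gr D.Xb i)) = 1 := by
    have := (LinearMap.charpoly_monic (T.pullDeg D.F i)).coeff_natDegree
    rwa [LinearMap.charpoly_natDegree] at this
  rw [h₁, hlead, one_mul] at h
  rw [LinearMap.det_eq_sign_charpoly_coeff, finrank_compl, mul_comm, pow_mul]
  calc LinearMap.det (T.pullDeg D.F i) * ((-1) ^ Module.finrank K ↥(T.gr D.Xb i) *
        (LinearMap.charpoly (T.pullDeg D.F (2 * (WeilCoh.dim D.Xb.obj.left : ℤ) - i))).coeff 0)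
      = (-1) ^ Module.finrank K ↥(T.gr D.Xb i) * (LinearMap.det (T.pullDeg D.F i) *
          (LinearMap.charpoly (T.pullDeg D.F (2 * (WeilCoh.dim D.Xb.obj.left : ℤ) - i))).coeff 0) := by
        ring
    _ = _ := by rw [h, ← mul_assoc, ← mul_pow, neg_one_mul, neg_neg, one_pow, one_mul]

end Groth.Agent.WeilLib.FrobSetting

end
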