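import Mathlib
import Groth.Agent.WeilLib.FrobPair

/-!
# The functional equation of the cohomological zeta function
-/

set_option autoImplicit false
set_option linter.unusedSectionVars false
universe u v w

open AlgebraicGeometry CategoryTheory WeilCoh

noncomputable section

namespace Groth.Agent.WeilLib

lemma sum_range_two_mul_add_one {M : Type w} [AddCommMonoid M] (f : ℕ → M) (n : ℕ) :
    ∑ i ∈ Finset.range (2 * n + 1), f i =
      ∑ j ∈ Finset.range (n + 1), f (2 * j) + ∑ j ∈ Finset.range n, f (2 * j + 1) := by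
  induction n with
  | zero => simp
  | succ n ih =>
    rw [show 2 * (n + 1) + 1 = 2 * n + 1 + 1 + 1 by ring, Finset.sum_range_succ,
      Finset.sum_range_succ, ih, Finset.sum_range_succ (fun j => f (2 * j)) (n + 1),
      Finset.sum_range_succ (fun j => f (2 * j + 1)) n,
      show 2 * n + 1 + 1 = 2 * (n + 1) by ring]
    abel

/-- The Euler characteristic in even and odd degrees. -/
lemma alternating_sum_split (B : ℕ → ℤ) (n : ℕ) :
    ∑ i ∈ Finset.range (2 * n + 1), (-1 : ℤ) ^ i * B i =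
      ∑ j ∈ Finset.range (n + 1), B (2 * j) - ∑ j ∈ Finset.range n, B (2 * j + 1) := by
  rw [sum_range_two_mul_add_one, sub_eq_add_neg, ← Finset.sum_neg_distrib]
  congr 1
  · exact Finset.sum_congr rfl fun j _ => by rw [pow_mul, neg_one_sq, one_pow, one_mul]
  · exact Finset.sum_congr rfl fun j _ => by
      rw [pow_succ, pow_mul, neg_one_sq, one_pow, one_mul, neg_one_mul]

/-- An alternating sum symmetric about the middle is twice a sum plus the middle term. -/
lemma alternating_sum_symm (B : ℕ → ℤ) (n : ℕ) (hB : ∀ i ≤ 2 * n, B (2 * n - i) = B i) :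
    ∑ i ∈ Finset.range (2 * n + 1), (-1 : ℤ) ^ i * B i =
      2 * ∑ i ∈ Finset.range n, (-1 : ℤ) ^ i * B i + (-1) ^ n * B n := by
  rw [show 2 * n + 1 = n + 1 + n by ring, Finset.sum_range_add, Finset.sum_range_succ]
  have h : ∑ j ∈ Finset.range n, (-1 : ℤ) ^ (n + 1 + j) * B (n + 1 + j) =
      ∑ i ∈ Finset.range n, (-1 : ℤ) ^ i * B i := by
    rw [← Finset.sum_range_reflect (fun i => (-1 : ℤ) ^ i * B i) n]
    refine Finset.sum_congr rfl fun j hj => ?_
    have hj' := Finset.mem_range.mp hj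
    have e : n + 1 + j = 2 * n - (n - 1 - j) := by omega
    rw [e, hB (n - 1 - j) (by omega)]
    congr 1
    exact neg_one_pow_congr (by simp [Nat.even_sub (by omega : n - 1 - j ≤ 2 * n)])
  rw [h]
  ring

/-- An alternating perfect pairing lives in even dimension. -/
lemma even_finrank_of_perfPair {K : Type v} [Field K] [CharZero K] {V : Type w} [AddCommGroup V]
    [Module K V] [FiniteDimensional K V] (B : V →ₗ[K] V →ₗ[K] K) [B.IsPerfPair]
    (h : ∀ x y, B x y = -B y x) : Even (Module.finrank K V) := by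
  classical
  let v := Module.finBasis K V
  have hM : (LinearMap.toMatrix₂ v v B).det ≠ 0 := by
    apply Matrix.det_ne_zero_of_right_inverse
      (B := LinearMap.toMatrix v.dualBasis v B.flip.toPerfPair.symm.toLinearMap)
    have : LinearMap.toMatrix₂ v v B = LinearMap.toMatrix v v.dualBasis B.flip := by
      ext i j
      simp [LinearMap.toMatrix₂_apply, LinearMap.toMatrix_apply]
    rw [this, ← LinearMap.toMatrix_comp]
    convert LinearMap.toMatrix_id v.dualBasis using 2
    exact LinearMap.ext fun φ => B.flip.toPerfPair.apply_symm_apply φ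
  by_contra hodd
  apply hM
  have hT : (LinearMap.toMatrix₂ v v B).transpose = -LinearMap.toMatrix₂ v v B := by
    ext i j
    simp only [Matrix.transpose_apply, LinearMap.toMatrix₂_apply, Matrix.neg_apply]
    exact h _ _
  have := congrArg Matrix.det hT
  rw [Matrix.det_transpose, Matrix.det_neg, Fintype.card_fin,
    (Nat.not_even_iff_odd.mp hodd).neg_one_pow, neg_one_mul] at this
  exact CharZero.eq_neg_self_iff.mp this

namespace FrobSetting

variable {k₀ : Type u} [Field k₀] [Finite k₀] {k : Type u} [Field k] [IsAlgClosed k] [Algebra k₀ k]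
  (D : FrobSetting k₀ k) {K : Type v} [Field K] [CharZero K] (T : WeilCoh.Theory k K)

local notation "n" => WeilCoh.dim D.Xb.obj.left

/-- The Betti numbers, indexed by natural numbers. -/
abbrev B (i : ℕ) : ℕ := Module.finrank K ↥(T.gr D.Xb (i : ℤ))

/-- The determinant of Frobenius, indexed by natural numbers. -/
abbrev d (i : ℕ) : K := LinearMap.det (T.pullDeg D.F (i : ℤ))

/-- The reversed characteristic polynomial. -/
abbrev P (i : ℕ) : Polynomial K := (LinearMap.charpoly (T.pullDeg D.F (i : ℤ))).reverse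

lemma Q_ne_zero : ((Nat.card k₀ : K) ^ n) ≠ 0 :=
  pow_ne_zero _ (Nat.cast_ne_zero.mpr Nat.card_pos.ne')

lemma det_ne_zero' (i : ℤ) : LinearMap.det (T.pullDeg D.F i) ≠ 0 := fun h => by
  have := det_mul_det D T i
  rw [h, mul_zero] at this
  exact pow_ne_zero _ (Nat.cast_ne_zero.mpr Nat.card_pos.ne') this.symm

lemma cast_compl {i : ℕ} (hi : i ≤ 2 * n) :
    ((2 * n - i : ℕ) : ℤ) = 2 * (n : ℤ) - i := by omega

lemma B_compl {i : ℕ} (hi : i ≤ 2 * n) : B D T (2 * n - i) = B D T i := by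
  unfold B
  rw [cast_compl D hi]
  exact finrank_compl D T i

lemma d_compl {i : ℕ} (hi : i ≤ 2 * n) :
    d D T (2 * n - i) * d D T i = ((Nat.card k₀ : K) ^ n) ^ B D T i := by
  unfold d
  rw [cast_compl D hi, det_mul_det D T i, pow_mul]

lemma even_B_middle (hn : Odd n) : Even (B D T n) := by
  have := T.duality D.Xb (n : ℤ) (n : ℤ) (by ring)
  refine even_finrank_of_perfPair (WeilCoh.pairing K (T.gr D.Xb (n : ℤ)) (T.gr D.Xb (n : ℤ))
    (T.tr D.Xb)) fun x y => ?_
  change T.tr D.Xb ((x : T.H D.Xb) * y) = -T.tr D.Xb ((y : T.H D.Xb) * x)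
  rw [mul_comm_sign T x.2 y.2, LinearMap.map_smul, smul_eq_mul, Int.natAbs_natCast,
    (hn.mul hn).neg_one_pow, neg_one_mul]

/-- The Euler characteristic. -/
abbrev E : ℤ := ∑ i ∈ Finset.range (2 * n + 1), (-1 : ℤ) ^ i * (B D T i : ℤ)

lemma even_dim_mul_E : Even ((n : ℤ) * E D T) := by
  rw [E, alternating_sum_symm _ _ fun i hi => by exact_mod_cast B_compl D T hi]
  rcases Nat.even_or_odd n with h | h
  · exact ((Int.even_coe_nat _).mpr h).mul_right _
  · exact ((even_two_mul _).add (((Int.even_coe_nat _).mpr (even_B_middle D T h)).mul_left _)).mul_left _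

lemma aeval_P {i : ℕ} (hi : i ≤ 2 * n) :
    Polynomial.aeval ((RatFunc.X : RatFunc K)⁻¹ * RatFunc.C ((Nat.card k₀ : K) ^ n)⁻¹) (P D T i) =
      (RatFunc.X : RatFunc K)⁻¹ ^ B D T i *
        RatFunc.C ((-1) ^ B D T i * d D T i * (((Nat.card k₀ : K) ^ n) ^ B D T i)⁻¹) *
        algebraMap (Polynomial K) (RatFunc K) (P D T (2 * n - i)) := by
  set Q : K := (Nat.card k₀ : K) ^ n with hQ
  have hQ0 : Q ≠ 0 := Q_ne_zero D
  have hu : (RatFunc.X : RatFunc K) * RatFunc.C Q ≠ 0 :=
    mul_ne_zero RatFunc.X_ne_zero ((map_ne_zero _).mpr hQ0)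
  let := invertibleOfNonzero hu
  have key := Polynomial.eval₂_reverse_mul_pow (algebraMap K (RatFunc K))
    ((RatFunc.X : RatFunc K) * RatFunc.C Q) (LinearMap.charpoly (T.pullDeg D.F (i : ℤ)))
  rw [invOf_eq_inv, LinearMap.charpoly_natDegree, mul_inv, ← map_inv₀] at key
  have hcomp : Polynomial.eval₂ (algebraMap K (RatFunc K)) ((RatFunc.X : RatFunc K) * RatFunc.C Q)
      (LinearMap.charpoly (T.pullDeg D.F (i : ℤ))) =
      algebraMap (Polynomial K) (RatFunc K)
        ((LinearMap.charpoly (T.pullDeg D.F (i : ℤ))).comp (Polynomial.C Q * Polynomial.X)) := by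
    rw [Polynomial.comp_eq_aeval, ← Polynomial.aeval_algebraMap_apply, ← Polynomial.aeval_def]
    congr 1
    rw [map_mul, RatFunc.algebraMap_C, RatFunc.algebraMap_X, mul_comm]
  have h55 := det_smul_reverse D T (i : ℤ)
  rw [← cast_compl D hi, ← hQ, Polynomial.smul_eq_C_mul] at h55
  have h55' : (LinearMap.charpoly (T.pullDeg D.F (i : ℤ))).comp (Polynomial.C Q * Polynomial.X) =
      Polynomial.C ((-1) ^ B D T i * d D T i) * P D T (2 * n - i) := by
    rw [map_mul, mul_assoc]
    change _ = Polynomial.C ((-1) ^ B D T i) *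
      (Polynomial.C (LinearMap.det (T.pullDeg D.F (i : ℤ))) * _)
    rw [h55, ← mul_assoc, show Polynomial.C ((-1 : K) ^ B D T i) *
        (-1) ^ Module.finrank K ↥(T.gr D.Xb (i : ℤ)) = 1 by simp [← mul_pow], one_mul]
  rw [hcomp, h55', map_mul, RatFunc.algebraMap_C] at key
  rw [Polynomial.aeval_def, eq_comm]
  calc (RatFunc.X : RatFunc K)⁻¹ ^ B D T i *
        RatFunc.C ((-1) ^ B D T i * d D T i * (Q ^ B D T i)⁻¹) *
        algebraMap (Polynomial K) (RatFunc K) (P D T (2 * n - i))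
      = (RatFunc.C ((-1) ^ B D T i * d D T i) *
          algebraMap (Polynomial K) (RatFunc K) (P D T (2 * n - i))) *
          ((RatFunc.X * RatFunc.C Q) ^ B D T i)⁻¹ := by
        simp only [map_mul, map_inv₀, map_pow, mul_pow, mul_inv, inv_pow]
        ring
    _ = _ := by
        rw [← key, mul_assoc, mul_inv_cancel₀ (pow_ne_zero _ hu), mul_one]

lemma prod_compl_odd {M : Type w} [CommMonoid M] (f : ℕ → M) (m : ℕ) :
    ∏ j ∈ Finset.range m, f (2 * m - (2 * j + 1)) = ∏ j ∈ Finset.range m, f (2 * j + 1) := by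
  rw [← Finset.prod_range_reflect (fun j => f (2 * j + 1)) m]
  exact Finset.prod_congr rfl fun j hj => congrArg f (by have := Finset.mem_range.mp hj; omega)

lemma prod_compl_even {M : Type w} [CommMonoid M] (f : ℕ → M) (m : ℕ) :
    ∏ j ∈ Finset.range (m + 1), f (2 * m - 2 * j) = ∏ j ∈ Finset.range (m + 1), f (2 * j) := by
  rw [← Finset.prod_range_reflect (fun j => f (2 * j)) (m + 1)]
  exact Finset.prod_congr rfl fun j hj => congrArg f (by have := Finset.mem_range.mp hj; omega)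

/-- A block of factors of the functional equation. -/
lemma aeval_prod_P {ι : Finset ℕ} (g : ℕ → ℕ) (hg : ∀ j ∈ ι, g j ≤ 2 * n)
    (hN : ∏ j ∈ ι, P D T (2 * n - g j) = ∏ j ∈ ι, P D T (g j))
    (hd : ∏ j ∈ ι, d D T (2 * n - g j) = ∏ j ∈ ι, d D T (g j)) :
    ∃ c : K, c ^ 2 * ((Nat.card k₀ : K) ^ n) ^ (∑ j ∈ ι, B D T (g j)) = 1 ∧
      Polynomial.aeval ((RatFunc.X : RatFunc K)⁻¹ * RatFunc.C ((Nat.card k₀ : K) ^ n)⁻¹)
          (∏ j ∈ ι, P D T (g j)) =
        (RatFunc.X : RatFunc K)⁻¹ ^ (∑ j ∈ ι, B D T (g j)) * RatFunc.C c *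
          algebraMap (Polynomial K) (RatFunc K) (∏ j ∈ ι, P D T (g j)) := by
  refine ⟨∏ j ∈ ι, ((-1) ^ B D T (g j) * d D T (g j) *
    (((Nat.card k₀ : K) ^ n) ^ B D T (g j))⁻¹), ?_, ?_⟩
  · have hsq : (∏ j ∈ ι, d D T (g j)) ^ 2 =
        ((Nat.card k₀ : K) ^ n) ^ (∑ j ∈ ι, B D T (g j)) := by
      rw [← Finset.prod_pow_eq_pow_sum, pow_two]
      nth_rw 1 [← hd]
      rw [← Finset.prod_mul_distrib]
      exact Finset.prod_congr rfl fun j hj => d_compl D T (hg j hj)
    have hne : ((Nat.card k₀ : K) ^ n) ^ (∑ j ∈ ι, B D T (g j)) ≠ 0 := pow_ne_zero _ (Q_ne_zero D)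
    rw [Finset.prod_mul_distrib, Finset.prod_mul_distrib, Finset.prod_inv_distrib,
      Finset.prod_pow_eq_pow_sum, Finset.prod_pow_eq_pow_sum, mul_pow, mul_pow, hsq, ← pow_mul,
      (show Even ((∑ j ∈ ι, B D T (g j)) * 2) from (even_two).mul_left _).neg_one_pow]
    field_simp
  · rw [map_prod, Finset.prod_congr rfl fun j hj => aeval_P D T (hg j hj), Finset.prod_mul_distrib,
      Finset.prod_mul_distrib, Finset.prod_pow_eq_pow_sum, map_prod RatFunc.C, ← map_prod
        (algebraMap (Polynomial K) (RatFunc K)) (fun j => P D T (2 * n - g j)), hN]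

lemma P_ne_zero (i : ℕ) : P D T i ≠ 0 := by
  simp [P, Polynomial.reverse_eq_zero, (LinearMap.charpoly_monic _).ne_zero]

theorem functional_equation : ∃ ε : K, (ε = 1 ∨ ε = -1) ∧
      Polynomial.aeval ((RatFunc.X : RatFunc K)⁻¹ * RatFunc.C ((Nat.card k₀ : K) ^ n)⁻¹)
          (∏ i ∈ Finset.range n, P D T (2 * i + 1)) /
        Polynomial.aeval ((RatFunc.X : RatFunc K)⁻¹ * RatFunc.C ((Nat.card k₀ : K) ^ n)⁻¹)
          (∏ i ∈ Finset.range (n + 1), P D T (2 * i)) =
      RatFunc.C ε * RatFunc.C (Nat.card k₀ : K) ^ ((n : ℤ) * E D T / 2) *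
        (RatFunc.X : RatFunc K) ^ E D T *
        (algebraMap (Polynomial K) (RatFunc K) (∏ i ∈ Finset.range n, P D T (2 * i + 1)) /
         algebraMap (Polynomial K) (RatFunc K) (∏ i ∈ Finset.range (n + 1), P D T (2 * i))) := by
  obtain ⟨co, hco, eo⟩ := aeval_prod_P D T (ι := Finset.range n) (fun j => 2 * j + 1)
    (fun j hj => by have := Finset.mem_range.mp hj; omega) (prod_compl_odd (P D T) n)
    (prod_compl_odd (d D T) n)
  obtain ⟨ce, hce, ee⟩ := aeval_prod_P D T (ι := Finset.range (n + 1)) (fun j => 2 * j)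
    (fun j hj => by have := Finset.mem_range.mp hj; omega) (prod_compl_even (P D T) n)
    (prod_compl_even (d D T) n)
  have hce0 : ce ≠ 0 := fun h => by simp [h] at hce
  obtain ⟨m, hm⟩ := even_dim_mul_E D T
  have hq : (Nat.card k₀ : K) ≠ 0 := Nat.cast_ne_zero.mpr Nat.card_pos.ne'
  have hE : E D T = ((∑ j ∈ Finset.range (n + 1), B D T (2 * j) : ℕ) : ℤ) -
      (∑ j ∈ Finset.range n, B D T (2 * j + 1) : ℕ) := by
    rw [E, alternating_sum_split]
    push_cast
    rfl
  set SO := ∑ j ∈ Finset.range n, B D T (2 * j + 1)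
  set SE := ∑ j ∈ Finset.range (n + 1), B D T (2 * j)
  set Q : K := (Nat.card k₀ : K) ^ n with hQ
  have hQ0 : Q ≠ 0 := Q_ne_zero D
  have hdiv : (n : ℤ) * E D T / 2 = m := by omega
  refine ⟨co / ce / (Nat.card k₀ : K) ^ m, ?_, ?_⟩
  · apply sq_eq_one_iff.mp
    have e1 : ((Nat.card k₀ : K) ^ m) ^ 2 = Q ^ E D T := by
      rw [hQ, ← zpow_natCast (Nat.card k₀ : K) n, ← zpow_mul, hm, zpow_add₀ hq, sq]
    have e2 : Q ^ E D T = Q ^ SE / Q ^ SO := by
      rw [hE, zpow_sub₀ hQ0, zpow_natCast, zpow_natCast]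
    have ho : co ^ 2 = (Q ^ SO)⁻¹ := eq_inv_of_mul_eq_one_left hco
    have he : ce ^ 2 = (Q ^ SE)⁻¹ := eq_inv_of_mul_eq_one_left hce
    rw [div_pow, div_pow, e1, e2, ho, he]
    have := pow_ne_zero SO hQ0
    have := pow_ne_zero SE hQ0
    field_simp
  · rw [eo, ee, hdiv, ← map_zpow₀, ← map_mul, div_mul_cancel₀ _ (zpow_ne_zero _ hq), map_div₀,
      hE, zpow_sub₀ RatFunc.X_ne_zero, zpow_natCast, zpow_natCast, inv_pow, inv_pow]
    have := pow_ne_zero SO (RatFunc.X_ne_zero (K := K))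
    have := pow_ne_zero SE (RatFunc.X_ne_zero (K := K))
    have : RatFunc.C ce ≠ 0 := (map_ne_zero _).mpr hce0
    have : algebraMap (Polynomial K) (RatFunc K) (∏ i ∈ Finset.range (n + 1), P D T (2 * i)) ≠ 0 :=
      RatFunc.algebraMap_ne_zero (Finset.prod_ne_zero_iff.mpr fun i _ => P_ne_zero D T _)
    field_simp

end FrobSetting

end Groth.Agent.WeilLib

end
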