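import Mathlib
import Groth.Agent.WeilLib.Basic

/-!
# The intersection of a graph with vanishing differential and the diagonal
-/

set_option autoImplicit false
set_option linter.unusedSectionVars false
universe u v

open AlgebraicGeometry CategoryTheory WeilCoh

noncomputable section

namespace Groth.Agent.WeilLib

variable {k : Type u} [Field k] [IsAlgClosed k] {X P : WeilCoh.Var k}

/-- The differential of `G` vanishes at the points it fixes. -/
def FlatAtFixed (G : X ⟶ X) : Prop :=
  ∀ w : X.obj.left, sm G w = w → ∀ (V : X.obj.left.Opens) (hw' : sm G w ∈ V) (a : Γ(X.obj.left, V)),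
    X.obj.left.presheaf.germ V (sm G w) hw' a ∈ IsLocalRing.maximalIdeal _ →
      ((sm G).stalkMap w).hom (X.obj.left.presheaf.germ V (sm G w) hw' a) ∈
        IsLocalRing.maximalIdeal (X.obj.left.presheaf.stalk w) ^ 2

lemma sm_comp_apply {A B C : WeilCoh.Var k} (f : A ⟶ B) (g : B ⟶ C) (h : A ⟶ C) (e : f ≫ g = h)
    (x : A.obj.left) : sm g (sm f x) = sm h x := by
  subst e; rfl

lemma eq_of_mem_closure_graph (G : X ⟶ X) (p q : P ⟶ X) (j d : X ⟶ P) (hjp : j ≫ p = 𝟙 X)
    (hjq : j ≫ q = G) (hdp : d ≫ p = 𝟙 X) (hdq : d ≫ q = 𝟙 X) [hsep : IsSeparated (sm p)]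
    (w : X.obj.left)
    (hw : sm d w ∈ closure ({sm j (genericPoint X.obj.left)} : Set P.obj.left)) :
    sm d w = sm j w ∧ sm G w = w := by
  have hcomp : sm j ≫ sm p = 𝟙 X.obj.left := congrArg (fun f => f.hom.left) hjp
  have : IsClosedImmersion (sm j) := by
    have : IsClosedImmersion (sm j ≫ sm p) := by rw [hcomp]; infer_instance
    exact IsClosedImmersion.of_comp (sm j) (sm p)
  have hmem : sm d w ∈ Set.range (sm j) :=
    (sm j).isClosedEmbedding.isClosed_range.closure_subset_iff.mpr
      (Set.singleton_subset_iff.mpr ⟨genericPoint X.obj.left, rfl⟩) hw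
  obtain ⟨y, hy⟩ := hmem
  have h1 : y = w := by
    have := congrArg (sm p) hy
    rw [sm_comp_apply j p _ hjp, sm_comp_apply d p _ hdp] at this
    exact this
  subst h1
  refine ⟨hy.symm, ?_⟩
  have := congrArg (sm q) hy
  rw [sm_comp_apply j q _ hjq, sm_comp_apply d q _ hdq] at this
  exact this

lemma mem_closure_graph (j : X ⟶ P) (w : X.obj.left) :
    sm j w ∈ closure ({sm j (genericPoint X.obj.left)} : Set P.obj.left) :=
  specializes_iff_mem_closure.mp ((genericPoint_specializes w).map (sm j).continuous)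

/-- The diagonal meets the graph with multiplicity one. -/
theorem preimMult_eq_one (G : X ⟶ X) (hG : FlatAtFixed G) (p q : P ⟶ X) (j d : X ⟶ P)
    (hjp : j ≫ p = 𝟙 X) (hjq : j ≫ q = G) (hdp : d ≫ p = 𝟙 X) (hdq : d ≫ q = 𝟙 X)
    [IsSeparated (sm p)] (w : X.obj.left)
    (hw : sm d w ∈ closure ({sm j (genericPoint X.obj.left)} : Set P.obj.left)) :
    preimMult (sm d) (sm j (genericPoint X.obj.left)) w hw = 1 := by
  obtain ⟨-, hfix⟩ := eq_of_mem_closure_graph G p q j d hjp hjq hdp hdq w hw
  have := LocallyOfFiniteType.isLocallyNoetherian X.obj.hom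
  set η := genericPoint X.obj.left
  set R := X.obj.left.presheaf.stalk w
  set 𝔪 := IsLocalRing.maximalIdeal R
  set I := RingHom.ker (Cyc.specMap (sm d w) (sm j η) (specializes_iff_mem_closure.mpr hw))
  set J := Ideal.map ((sm d).stalkMap w).hom I
  have hJle : J ≤ 𝔪 := by
    refine Ideal.map_le_iff_le_comap.mpr
      ((IsLocalRing.le_maximalIdeal (RingHom.ker_ne_top _)).trans fun x hx => ?_)
    exact map_nonunit ((sm d).stalkMap w).hom x hx
  obtain ⟨V, hV, hwV, -⟩ := exists_isAffineOpen_mem_and_subset (X := X.obj.left) (x := w) (U := ⊤)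
    trivial
  have hfixV : sm G w ∈ V := by rw [hfix]; exact hwV
  have key : ∀ a : Γ(X.obj.left, V), X.obj.left.presheaf.germ V w hwV a ∈ 𝔪 →
      X.obj.left.presheaf.germ V w hwV a ∈ J ⊔ 𝔪 ^ 2 := by
    intro a ha
    let W : P.obj.left.Opens := sm p ⁻¹ᵁ (sm G ⁻¹ᵁ V) ⊓ sm q ⁻¹ᵁ V
    have hdW : sm d w ∈ W := by
      refine ⟨?_, ?_⟩
      · change sm G (sm p (sm d w)) ∈ V
        rw [sm_comp_apply d p _ hdp]
        exact hfixV
      · change sm q (sm d w) ∈ V
        rw [sm_comp_apply d q _ hdq]
        exact hwV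
    let b : Γ(X.obj.left, sm G ⁻¹ᵁ V) := ((sm G).app V).hom a
    let A : Γ(P.obj.left, W) := ((sm q).appLE V W inf_le_right).hom a
    let B : Γ(P.obj.left, W) := ((sm p).appLE (sm G ⁻¹ᵁ V) W inf_le_left).hom b
    let h : Γ(P.obj.left, W) := A - B
    have hjW : sm j η ∈ W :=
      ((specializes_iff_mem_closure.mpr hw).mem_open W.isOpen hdW)
    -- `h` vanishes on the graph
    have hI : P.obj.left.presheaf.germ W (sm d w) hdW h ∈ I := by
      rw [RingHom.mem_ker, Cyc.specMap, CommRingCat.hom_comp, RingHom.comp_apply]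
      have he : (P.obj.left.presheaf.stalkSpecializes
          (specializes_iff_mem_closure.mpr hw)).hom (P.obj.left.presheaf.germ W (sm d w) hdW h) =
          P.obj.left.presheaf.germ W (sm j η) hjW h :=
        congrArg (fun φ : Γ(P.obj.left, W) ⟶ P.obj.left.presheaf.stalk (sm j η) => φ.hom h)
          (P.obj.left.presheaf.germ_stalkSpecializes hdW _)
      rw [he]
      change (P.obj.left.evaluation W (sm j η) hjW).hom h = 0
      apply ((sm j).residueFieldMap η).hom.injective
      rw [map_zero]
      refine (Scheme.evaluation_naturality_apply (sm j) η hjW h).trans ?_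
      have hz : ((sm j).app W).hom h = 0 := by
        rw [map_sub, sub_eq_zero, ← CommRingCat.comp_apply]
        rw [show ((sm j).app W).hom B = (((sm G).app V ≫ (sm p).appLE (sm G ⁻¹ᵁ V) W inf_le_left) ≫
          (sm j).app W).hom a from rfl]
        refine DFunLike.congr_fun (congrArg CommRingCat.Hom.hom ?_) a
        rw [Scheme.Hom.app_eq_appLE, Scheme.Hom.app_eq_appLE, Category.assoc,
          Scheme.Hom.appLE_comp_appLE, Scheme.Hom.appLE_comp_appLE, Scheme.Hom.appLE_comp_appLE]
        have e1 : sm j ≫ sm q = sm G := congrArg (fun f => f.hom.left) hjq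
        have e2 : (sm j ≫ sm p) ≫ sm G = sm G := by
          rw [show sm j ≫ sm p = 𝟙 _ from congrArg (fun f => f.hom.left) hjp]
          exact Category.id_comp _
        simp only [e1, e2]
      rw [hz, map_zero]
    have hJ : ((sm d).stalkMap w).hom (P.obj.left.presheaf.germ W (sm d w) hdW h) ∈ J :=
      Ideal.mem_map_of_mem _ hI
    have hA : ((sm d).stalkMap w).hom (P.obj.left.presheaf.germ W (sm d w) hdW A) =
        X.obj.left.presheaf.germ V w hwV a := by
      rw [Scheme.Hom.germ_stalkMap_apply]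
      change (((sm q).appLE V W inf_le_right ≫ (sm d).app W) ≫
        X.obj.left.presheaf.germ _ w _).hom a = _
      rw [Scheme.Hom.app_eq_appLE, Scheme.Hom.appLE_comp_appLE]
      simp only [show sm d ≫ sm q = 𝟙 X.obj.left from congrArg (fun f => f.hom.left) hdq]
      simp only [Scheme.Hom.appLE, Scheme.Hom.id_app]
      erw [Category.id_comp, X.obj.left.presheaf.germ_res]
      rfl
    have hB : ((sm d).stalkMap w).hom (P.obj.left.presheaf.germ W (sm d w) hdW B) =
        ((sm G).stalkMap w).hom (X.obj.left.presheaf.germ V (sm G w) hfixV a) := by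
      rw [Scheme.Hom.germ_stalkMap_apply, Scheme.Hom.germ_stalkMap_apply]
      change ((((sm G).app V ≫ (sm p).appLE (sm G ⁻¹ᵁ V) W inf_le_left) ≫ (sm d).app W) ≫
        X.obj.left.presheaf.germ _ w _).hom a =
          ((sm G).app V ≫ X.obj.left.presheaf.germ _ w _).hom a
      rw [Scheme.Hom.app_eq_appLE (sm d), Category.assoc ((sm G).app V),
        Scheme.Hom.appLE_comp_appLE]
      simp only [show sm d ≫ sm p = 𝟙 X.obj.left from congrArg (fun f => f.hom.left) hdp]
      simp only [Scheme.Hom.appLE, Scheme.Hom.id_app, Category.assoc]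
      erw [Category.id_comp, X.obj.left.presheaf.germ_res]
      rfl
    have ha' : X.obj.left.presheaf.germ V (sm G w) hfixV a ∈ IsLocalRing.maximalIdeal _ := by
      rw [← IsLocalRing.residue_eq_zero_iff] at ha ⊢
      change (X.obj.left.evaluation V (sm G w) hfixV).hom a = 0
      change (X.obj.left.evaluation V w hwV).hom a = 0 at ha
      by_contra hne
      have h1 : sm G w ∈ X.obj.left.basicOpen a := by
        rwa [← Scheme.evaluation_ne_zero_iff_mem_basicOpen _ _ hfixV]
      rw [hfix, ← Scheme.evaluation_ne_zero_iff_mem_basicOpen _ _ hwV] at h1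
      exact h1 ha
    have e : X.obj.left.presheaf.germ V w hwV a =
        ((sm d).stalkMap w).hom (P.obj.left.presheaf.germ W (sm d w) hdW h) +
          ((sm G).stalkMap w).hom (X.obj.left.presheaf.germ V (sm G w) hfixV a) := by
      rw [map_sub, map_sub, hA, hB, sub_add_cancel]
    rw [e]
    exact Submodule.add_mem_sup hJ (hG w hfix V hfixV a ha')
  have hle : 𝔪 ≤ J := by
    have h1 : 𝔪 ≤ J ⊔ 𝔪 • 𝔪 := by
      rw [smul_eq_mul, ← pow_two]
      let := (X.obj.left.presheaf.germ V w hwV).hom.toAlgebra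
      have := hV.isLocalization_stalk ⟨w, hwV⟩
      intro s hs
      obtain ⟨⟨a, c⟩, hac⟩ := IsLocalization.surj (hV.primeIdealOf ⟨w, hwV⟩).asIdeal.primeCompl s
      have hu : IsUnit (X.obj.left.presheaf.germ V w hwV (c : Γ(X.obj.left, V))) :=
        IsLocalization.map_units R c
      refine (Ideal.mul_unit_mem_iff_mem _ hu).mp ?_
      change _ = X.obj.left.presheaf.germ V w hwV a at hac
      rw [show s * X.obj.left.presheaf.germ V w hwV (c : Γ(X.obj.left, V)) =
        X.obj.left.presheaf.germ V w hwV a from hac]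
      refine key a ?_
      rw [← hac]
      exact Ideal.mul_mem_right _ _ hs
    exact Submodule.le_of_le_smul_of_le_jacobson_bot (IsNoetherian.noetherian 𝔪)
      (IsLocalRing.maximalIdeal_le_jacobson ⊥) h1
  have hJ : J = 𝔪 := le_antisymm hJle hle
  change (Module.length R (R ⧸ J)).toNat = 1
  rw [hJ]
  have : IsSimpleModule R (R ⧸ 𝔪) :=
    isSimpleModule_iff_isCoatom.mpr (IsLocalRing.maximalIdeal.isMaximal R).out
  rw [Module.length_eq_one]
  rfl

lemma isSeparated_hom (X : WeilCoh.Var k) : IsSeparated X.obj.hom := by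
  obtain ⟨n, i, hi, e⟩ := X.property.2.1
  rw [← e]
  have : IsSeparated (CohB1.ProjSpace.toSpec n k) := by
    unfold CohB1.ProjSpace.toSpec
    exact MorphismProperty.comp_mem @IsSeparated _ _
      (inferInstanceAs (IsSeparated (Proj.toSpecZero (CohB1.polyGrading n k)))) inferInstance
  have : IsSeparated (CohB1.ProjSpace.toSpec n (ULift.{u} ℤ)) := by
    unfold CohB1.ProjSpace.toSpec
    exact MorphismProperty.comp_mem @IsSeparated _ _
      (inferInstanceAs (IsSeparated (Proj.toSpecZero (CohB1.polyGrading n (ULift.{u} ℤ))))) inferInstance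
  have : IsSeparated (CohB1.ProjSpaceOver.toBase n (Spec (CommRingCat.of k))) :=
    inferInstanceAs (IsSeparated (Limits.pullback.snd (CohB1.ProjSpace.toSpec n (ULift.{u} ℤ)) _))
  exact MorphismProperty.comp_mem @IsSeparated _ _ inferInstance this

variable {K : Type v} [Field K] [CharZero K] (T : WeilCoh.Theory k K)

/-- The graph meets the diagonal in the fixed points, with multiplicity one. -/
theorem tr_cl_graph_mul_cl_diag (G : X ⟶ X) (hG : FlatAtFixed G) (p q : P ⟶ X) (hP : IsProd p q)
    (j d : X ⟶ P) (hjp : j ≫ p = 𝟙 X) (hjq : j ≫ q = G) (hdp : d ≫ p = 𝟙 X) (hdq : d ≫ q = 𝟙 X)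
    (hfin : {x : X.obj.left | IsClosed ({x} : Set X.obj.left) ∧ sm G x = x}.Finite)
    (hpt : ∀ x : X.obj.left, IsClosed ({x} : Set X.obj.left) → sm G x = x → sm d x = sm j x) :
    T.tr P (T.cl P (sm j (genericPoint X.obj.left)) * T.cl P (sm d (genericPoint X.obj.left))) =
      (Nat.card {x : X.obj.left | IsClosed ({x} : Set X.obj.left) ∧ sm G x = x} : K) := by
  classical
  have hsep : IsSeparated (sm p) := by
    have : IsSeparated X.obj.hom := isSeparated_hom X
    exact MorphismProperty.of_isPullback hP.flip this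
  set ξ := sm j (genericPoint X.obj.left)
  set S := {x : X.obj.left | IsClosed ({x} : Set X.obj.left) ∧ sm G x = x}
  set Z := (sm d) ⁻¹' closure ({ξ} : Set P.obj.left)
  have hjac : JacobsonSpace X.obj.left := LocallyOfFiniteType.jacobsonSpace X.obj.hom
  have hZ : Z = S := by
    have h1 : Z ∩ closedPoints X.obj.left = S := by
      ext x
      refine ⟨fun ⟨hx, hc⟩ => ⟨hc, (eq_of_mem_closure_graph G p q j d hjp hjq hdp hdq x hx).2⟩,
        fun ⟨hc, hx⟩ => ⟨?_, hc⟩⟩
      change sm d x ∈ closure _
      rw [hpt x hc hx]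
      exact mem_closure_graph j x
    have hc : IsClosed Z := isClosed_closure.preimage (sm d).continuous
    rw [← closure_inter_closedPoints hc, h1]
    have : IsClosed S := by
      rw [← S.biUnion_of_singleton]
      exact hfin.isClosed_biUnion fun x hx => hx.1
    exact this.closure_eq
  have hcomp : ∀ x, IsCompPt Z x ↔ x ∈ S := fun x => by
    rw [hZ]
    refine ⟨fun h => h.1, fun h => ⟨h, fun y hy hyx => ?_⟩⟩
    exact (hy.1.closure_eq.le (specializes_iff_mem_closure.mp hyx)).symm
  have hd := dim_prod T p q hP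
  have hpull := T.cl_pull d ξ (fun w hw => by
      rw [(pdim_eq_zero_iff_isClosed X.obj.hom w).mpr ((hcomp w).mp hw).1,
        show pdim P.obj.left ξ = _ from pdim_section j p hjp _, pdim_genericPoint, hd]
      push_cast
      ring)
    (Or.inr fun w hw => preimMult_eq_one G hG p q j d hjp hjq hdp hdq w hw.1)
  rw [mul_comm_even T (even_two_mul _) (T.cl_mem P _) (T.cl_mem P _), tr_cl_section T d p hdp,
    cl_genericPoint, one_mul, hpull]
  let e : {w : X.obj.left // IsCompPt Z w} ≃ S := Equiv.subtypeEquivRight hcomp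
  have : Finite S := hfin.to_subtype
  have : Finite {w : X.obj.left // IsCompPt Z w} := Finite.of_equiv _ e.symm
  have := Fintype.ofFinite {w : X.obj.left // IsCompPt Z w}
  rw [finsum_eq_sum_of_fintype, map_sum, Finset.sum_eq_card_nsmul (b := (1 : K)) fun w _ => by
      rw [preimMult_eq_one G hG p q j d hjp hjq hdp hdq w.1 w.2.1, Nat.cast_one, one_smul,
        tr_cl_closed T w.1 ((hcomp _).mp w.2).1],
    nsmul_one, Finset.card_univ, ← Nat.card_eq_fintype_card, Nat.card_congr e]

end Groth.Agent.WeilLib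

end
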