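import Mathlib
import Groth.Agent.WeilLib.FrobFix
import Groth.Agent.WeilLib.Intersect
import Groth.Agent.WeilLib.FuncEq
import Groth.Agent.ZetaPts.Series
import Groth.Agent.S15450

/-!
# The cohomological expression of the zeta function
-/

set_option autoImplicit false
set_option linter.unusedSectionVars false
universe u v

open AlgebraicGeometry CategoryTheory WeilCoh Groth.Agent.ZetaAlg

noncomputable section

namespace Groth.Agent.WeilLib.FrobSetting

variable {k₀ : Type u} [Field k₀] [Finite k₀] {k : Type u} [Field k] [IsAlgClosed k] [Algebra k₀ k]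
  (D : FrobSetting k₀ k)

/-- The relative Frobenius sends the maximal ideal of the image point into the square of the
maximal ideal. -/
lemma stalkMap_F_mem (z : D.Xb.obj.left) (s : D.Xb.obj.left.presheaf.stalk (sm D.F z))
    (hs : s ∈ IsLocalRing.maximalIdeal (D.Xb.obj.left.presheaf.stalk (sm D.F z))) :
    ((sm D.F).stalkMap z).hom s ∈
      IsLocalRing.maximalIdeal (D.Xb.obj.left.presheaf.stalk z) ^ 2 := by
  obtain ⟨U, hU, hzU, -⟩ := exists_isAffineOpen_mem_and_subset (X := D.X) (x := D.π z) (U := ⊤) trivial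
  have hV : IsAffineOpen (D.π ⁻¹ᵁ U) := by
    have : IsAffineHom D.π := MorphismProperty.of_isPullback D.hπ.flip inferInstance
    exact hU.preimage D.π
  have hz : z ∈ D.π ⁻¹ᵁ U := hzU
  let := (D.Xb.obj.left.presheaf.germ (D.π ⁻¹ᵁ U) (sm D.F z) (D.mem_F hz)).hom.toAlgebra
  have := hV.isLocalization_stalk ⟨sm D.F z, D.mem_F hz⟩
  obtain ⟨⟨a, c⟩, hac⟩ :=
    IsLocalization.surj (hV.primeIdealOf ⟨sm D.F z, D.mem_F hz⟩).asIdeal.primeCompl s
  change s * D.Xb.obj.left.presheaf.germ (D.π ⁻¹ᵁ U) (sm D.F z) (D.mem_F hz)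
      (c : Γ(D.Xb.obj.left, D.π ⁻¹ᵁ U)) =
    D.Xb.obj.left.presheaf.germ (D.π ⁻¹ᵁ U) (sm D.F z) (D.mem_F hz) a at hac
  have hu : IsUnit (D.Xb.obj.left.presheaf.germ (D.π ⁻¹ᵁ U) (sm D.F z) (D.mem_F hz)
      (c : Γ(D.Xb.obj.left, D.π ⁻¹ᵁ U))) :=
    IsLocalization.map_units (D.Xb.obj.left.presheaf.stalk (sm D.F z)) c
  refine (Ideal.mul_unit_mem_iff_mem _ (hu.map ((sm D.F).stalkMap z).hom)).mp ?_
  rw [← map_mul, hac]
  have hga : D.Xb.obj.left.presheaf.germ (D.π ⁻¹ᵁ U) (sm D.F z) (D.mem_F hz) a ∈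
      IsLocalRing.maximalIdeal _ := hac ▸ Ideal.mul_mem_right _ _ hs
  have hgerm : ((sm D.F).stalkMap z).hom
      (D.Xb.obj.left.presheaf.germ (D.π ⁻¹ᵁ U) (sm D.F z) (D.mem_F hz) a) =
      D.Xb.obj.left.presheaf.germ (D.π ⁻¹ᵁ U) z hz ((D.frob U).hom a) := by
    rw [Scheme.Hom.germ_stalkMap_apply]
    change _ = (((sm D.F).app (D.π ⁻¹ᵁ U) ≫ D.Xb.obj.left.presheaf.map (homOfLE _).op) ≫
      D.Xb.obj.left.presheaf.germ (D.π ⁻¹ᵁ U) z hz).hom a
    rw [Category.assoc, TopCat.Presheaf.germ_res]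
    rfl
  obtain ⟨a', ha'⟩ := (D.frob_range hU ⟨z, hz⟩ a).1
  rw [hgerm, ha', map_pow]
  have hm : D.Xb.obj.left.presheaf.germ (D.π ⁻¹ᵁ U) z hz ((D.frob U).hom a) ∈
      IsLocalRing.maximalIdeal _ := hgerm ▸ map_nonunit ((sm D.F).stalkMap z).hom _ hga
  rw [ha', map_pow] at hm
  exact Ideal.pow_le_pow_right Finite.one_lt_card
    (Ideal.pow_mem_pow ((IsLocalRing.maximalIdeal.isMaximal _).isPrime.mem_of_pow_mem _ hm) _)

lemma flatAtFixed_powMor (m : ℕ) : FlatAtFixed (D.powMor (m + 1)) := by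
  intro w _ V hV a ha
  change ((sm (D.powMor m) ≫ sm D.F).stalkMap w).hom _ ∈ _
  rw [Scheme.Hom.stalkMap_comp]
  erw [CommRingCat.hom_comp, RingHom.comp_apply]
  have h := D.stalkMap_F_mem (sm (D.powMor m) w) _ ha
  have hle : (IsLocalRing.maximalIdeal (D.Xb.obj.left.presheaf.stalk (sm (D.powMor m) w))).map
      ((sm (D.powMor m)).stalkMap w).hom ≤ IsLocalRing.maximalIdeal _ :=
    Ideal.map_le_iff_le_comap.mpr fun x hx => map_nonunit ((sm (D.powMor m)).stalkMap w).hom x hx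
  refine Ideal.pow_right_mono hle 2 ?_
  rw [← Ideal.map_pow]
  exact Ideal.mem_map_of_mem _ h

variable {K : Type v} [Field K] [CharZero K] (T : WeilCoh.Theory k K)

lemma pullDeg_pow (i : ℤ) (m : ℕ) : T.pullDeg D.F i ^ m = T.pullDeg (D.powMor m) i := by
  induction m with
  | zero => refine LinearMap.ext fun a => Subtype.ext ?_; exact (pull_id_apply T _).symm
  | succ m ih =>
    rw [pow_succ, ih]
    refine LinearMap.ext fun a => Subtype.ext ?_
    exact pull_pull T (D.powMor m) D.F _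

variable [LocallyOfFiniteType D.f] [QuasiCompact D.f]

/-- The trace formula for the powers of Frobenius. -/
theorem nPts_eq_sum_trace (Pb : WeilCoh.Var k) (p q : Pb ⟶ D.Xb) (hP : IsProd p q) (m : ℕ)
    (hm : m ≠ 0) :
    (Zeta.nPts D.f m : K) = ∑ i ∈ Finset.range (2 * WeilCoh.dim D.Xb.obj.left + 1),
      (-1 : K) ^ i * LinearMap.trace K ↥(T.gr D.Xb (i : ℤ)) (T.pullDeg D.F (i : ℤ) ^ m) := by
  obtain ⟨m', rfl⟩ := Nat.exists_eq_succ_of_ne_zero hm
  let mk : (D.Xb ⟶ D.Xb) → (D.Xb ⟶ Pb) := fun g =>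
    ObjectProperty.homMk (Over.homMk (U := D.Xb.obj) (V := Pb.obj)
      (hP.lift (𝟙 _) (sm g) ((Category.id_comp _).trans (Over.w g.hom).symm))
      (by
        rw [← Over.w p.hom, ← Category.assoc]
        erw [hP.lift_fst]
        exact Category.id_comp _))
  have hp : ∀ g, mk g ≫ p = 𝟙 D.Xb := fun g =>
    ObjectProperty.hom_ext _ (Over.OverMorphism.ext (hP.lift_fst _ _ _))
  have hq : ∀ g, mk g ≫ q = g := fun g =>
    ObjectProperty.hom_ext _ (Over.OverMorphism.ext (hP.lift_snd _ _ _))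
  obtain ⟨hfin, hcard⟩ := D.finite_fixSet_and_card (Nat.succ_ne_zero m')
  simp only [pullDeg_pow]
  rw [← Groth.Agent.S15450.result k K T D.Xb Pb (D.powMor (m' + 1)) p q hP (mk (D.powMor (m' + 1)))
    (mk (𝟙 D.Xb)) (hp _) (hq _) (hp _) (hq _),
    tr_cl_graph_mul_cl_diag T _ (D.flatAtFixed_powMor m') p q hP _ _ (hp _) (hq _) (hp _) (hq _)
      hfin fun x hx hxG => ?_]
  · exact congrArg Nat.cast hcard.symm
  -- the graph and the diagonal agree at the fixed rational points
  let E := pointEquivClosedPoint D.Xb.obj.hom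
  let s := E.symm ⟨x, hx⟩
  have hs : s.1 (IsLocalRing.closedPoint k) = x := congrArg Subtype.val (E.apply_symm_apply ⟨x, hx⟩)
  have hsG : (s.1 ≫ sm (D.powMor (m' + 1))) ≫ D.Xb.obj.hom = 𝟙 _ := by
    rw [Category.assoc, D.powMor_hom, s.2]
  have heq : (⟨_, hsG⟩ : { t // t ≫ D.Xb.obj.hom = 𝟙 _ }) = s := E.injective (Subtype.ext (by
    change sm (D.powMor (m' + 1)) (s.1 (IsLocalRing.closedPoint k)) = s.1 (IsLocalRing.closedPoint k)
    rw [hs, hxG]))
  have hjd : s.1 ≫ sm (mk (D.powMor (m' + 1))) = s.1 ≫ sm (mk (𝟙 D.Xb)) := by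
    refine hP.hom_ext ?_ ?_
    · change (s.1 ≫ hP.lift _ _ _) ≫ sm p = (s.1 ≫ hP.lift _ _ _) ≫ sm p
      rw [Category.assoc, Category.assoc, hP.lift_fst, hP.lift_fst]
    · change (s.1 ≫ hP.lift _ _ _) ≫ sm q = (s.1 ≫ hP.lift _ _ _) ≫ sm q
      rw [Category.assoc, Category.assoc, hP.lift_snd, hP.lift_snd]
      exact (congrArg Subtype.val heq).trans (Category.comp_id _).symm
  have := congrArg (fun t : Spec (CommRingCat.of k) ⟶ Pb.obj.left =>
    t (IsLocalRing.closedPoint k)) hjd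
  rw [← hs]
  exact this.symm

lemma hasLD_reverse_charpoly {V : Type*} [AddCommGroup V] [Module K V] [FiniteDimensional K V]
    (φ : V →ₗ[K] V) :
    HasLD (((LinearMap.charpoly φ).reverse : Polynomial K) : PowerSeries K)
      (PowerSeries.mk fun m => -LinearMap.trace K V (φ ^ (m + 1))) ∧
      PowerSeries.constantCoeff (((LinearMap.charpoly φ).reverse : Polynomial K) : PowerSeries K) = 1 := by
  classical
  let b := Module.finBasis K V
  have h : (LinearMap.charpoly φ).reverse = (LinearMap.toMatrix b b φ).charpolyRev := by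
    rw [← LinearMap.charpoly_toMatrix φ b, Matrix.reverse_charpoly]
  rw [h]
  refine ⟨?_, constantCoeff_charpolyRev _⟩
  have := hasLD_charpolyRev (LinearMap.toMatrix b b φ)
  convert this using 3 with m
  rw [LinearMap.trace_eq_matrix_trace K b, LinearMap.toMatrix_pow]

/-- The zeta function is given by the characteristic polynomials of Frobenius. -/
theorem zetaFun_mul_prod_even (Pb : WeilCoh.Var k) (p q : Pb ⟶ D.Xb) (hP : IsProd p q) :
    PowerSeries.map (algebraMap ℚ K) (Zeta.zetaFun D.f) *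
        (∏ i ∈ Finset.range (WeilCoh.dim D.Xb.obj.left + 1),
          ((LinearMap.charpoly (T.pullDeg D.F ((2 * i : ℕ) : ℤ))).reverse : PowerSeries K)) =
      ∏ i ∈ Finset.range (WeilCoh.dim D.Xb.obj.left),
        ((LinearMap.charpoly (T.pullDeg D.F ((2 * i + 1 : ℕ) : ℤ))).reverse : PowerSeries K) := by
  have hZ : HasLD (PowerSeries.map (algebraMap ℚ K) (Zeta.zetaFun D.f))
      (PowerSeries.mk fun m => (Zeta.nPts D.f (m + 1) : K)) := by
    rw [HasLD]
    have h := congrArg (PowerSeries.map (algebraMap ℚ K)) (ZetaPts.hasLD_zetaFun D.f)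
    rw [map_mul] at h
    convert h using 1
    · ext m
      simp [PowerSeries.coeff_derivative]
    · congr 1
      ext m
      simp
  have hev := HasLD.prod (Finset.range (WeilCoh.dim D.Xb.obj.left + 1))
    fun i _ => (hasLD_reverse_charpoly (T.pullDeg D.F ((2 * i : ℕ) : ℤ))).1
  have hod := HasLD.prod (Finset.range (WeilCoh.dim D.Xb.obj.left))
    fun i _ => (hasLD_reverse_charpoly (T.pullDeg D.F ((2 * i + 1 : ℕ) : ℤ))).1
  refine (?_ : HasLD _ _).ext hod ?_ ?_
  · convert hZ.mul hev using 1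
    ext m
    simp only [map_add, map_sum, PowerSeries.coeff_mk,
      nPts_eq_sum_trace D T Pb p q hP (m + 1) (Nat.succ_ne_zero m)]
    rw [sum_range_two_mul_add_one]
    simp only [fun i : ℕ => (even_two_mul i).neg_one_pow (α := K),
      fun i : ℕ => (odd_two_mul_add_one i).neg_one_pow (α := K), one_mul, neg_one_mul,
      Finset.sum_neg_distrib]
    ring
  · simp only [map_mul, map_prod, (hasLD_reverse_charpoly _).2, Finset.prod_const_one, mul_one]
    rw [← PowerSeries.coeff_zero_eq_constantCoeff_apply, PowerSeries.coeff_map,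
      PowerSeries.coeff_zero_eq_constantCoeff_apply, ZetaPts.constantCoeff_zetaFun, map_one]
  · simp only [map_prod, (hasLD_reverse_charpoly _).2, Finset.prod_const_one]
    exact one_ne_zero

end Groth.Agent.WeilLib.FrobSetting

end
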